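import Groth.Agent.SheafHomX.Coherent
import Groth.Agent.SheafHomX.Extra
import Groth.Agent.ConsPropLib.FibreLocFree
import Groth.Agent.KFlatLib.Scheme.TensorStalk
import Groth.Agent.QCoh.Devissage
import Groth.Agent.ZClosLib.Basic
import Groth.Agent.InvX.Tensor
import Groth.Agent.Lib.CurveDeg
import Groth.Agent.KFlatLib.Scheme.LocalDevissage

/-!
# Locally split extensions from an epimorphism of duals
-/

set_option linter.style.haveILetI false
set_option backward.isDefEq.respectTransparency false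
set_option synthInstance.maxHeartbeats 100000
set_option maxHeartbeats 800000

universe u

open CategoryTheory CategoryTheory.Limits AlgebraicGeometry TopologicalSpace Opposite

attribute [local instance] CategoryTheory.Abelian.hasFiniteBiproducts

namespace Groth.Agent.PnVan

variable {X : Scheme.{u}} (U : X.Opens)

/-- `O_U ⊗ - = id`. -/
noncomputable def unitTen : (DCoh.tensorBi (X := (U : Scheme.{u}))).obj (Coh.structureModule U) ≅ 𝟭 _ :=
  ((KFlatLib.tensorBiFlipIso (U : Scheme.{u})).app (Coh.structureModule U)).symm ≪≫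
    KFlatLib.tensorStructureIso (U : Scheme.{u})

/-- `j_! O_U ⊗ M = j_!(M|_U)`. -/
noncomputable def shriekTen (M : X.Modules) :
    (KFlatLib.lsh U.ι).obj ((Scheme.Modules.restrictFunctor U.ι).obj M) ≅
      ((DCoh.tensorBi (X := X)).obj ((KFlatLib.lsh U.ι).obj (Coh.structureModule U))).obj M :=
  (KFlatLib.lsh U.ι).mapIso ((unitTen U).symm.app _) ≪≫ ((KFlatLib.projIso U.ι).app (Coh.structureModule U)).app M

theorem shriekTen_naturality {M M' : X.Modules} (f : M ⟶ M') :
    (KFlatLib.lsh U.ι).map ((Scheme.Modules.restrictFunctor U.ι).map f) ≫ (shriekTen U M').hom =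
      (shriekTen U M).hom ≫ ((DCoh.tensorBi (X := X)).obj ((KFlatLib.lsh U.ι).obj (Coh.structureModule U))).map f := by
  have h1 := (unitTen U).inv.naturality ((Scheme.Modules.restrictFunctor U.ι).map f)
  have h2 := ((KFlatLib.projIso U.ι).app (Coh.structureModule U)).hom.naturality f
  simp only [shriekTen, Iso.trans_hom, Functor.mapIso_hom, Iso.app_hom, Iso.symm_hom]
  rw [← Category.assoc, ← Functor.map_comp, show (Scheme.Modules.restrictFunctor U.ι).map f ≫
    (unitTen U).inv.app _ = _ from h1, Functor.map_comp, Category.assoc, Category.assoc]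
  exact congrArg (_ ≫ ·) h2

/-- On an affine open, maps out of a submodule extend, given an epimorphism of duals. -/
theorem exists_extend {K E N : X.Modules} (f : K ⟶ E) [Epi ((SheafHomX.homMap f).app N)]
    (hE : Coh.IsQCoh ((SheafHomX.hom E).obj N)) (hK : Coh.IsQCoh ((SheafHomX.hom K).obj N))
    (hU : IsAffineOpen U) (l : K.restrict U.ι ⟶ N.restrict U.ι) :
    ∃ m : E.restrict U.ι ⟶ N.restrict U.ι, (Scheme.Modules.restrictFunctor U.ι).map f ≫ m = l := by
  let F := Scheme.Modules.restrictFunctor U.ι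
  let A := KFlatLib.lshAdj U.ι
  let l' := (shriekTen U K).inv ≫ (A.homEquiv _ _).symm l
  let a : (KFlatLib.lsh U.ι).obj (Coh.structureModule U) ⟶ (SheafHomX.hom K).obj N :=
    (SheafHomX.adj K).homEquiv _ _ l'
  haveI : IsAffine (U : Scheme.{u}) := hU
  haveI : Epi (F.map ((SheafHomX.homMap f).app N)) := inferInstance
  let a' := A.homEquiv _ _ a
  obtain ⟨s, hs⟩ := QCoh.app_surjective_of_epi (QCoh.isQCoh_restrict U.ι hE) (QCoh.isQCoh_restrict U.ι hK)
    (F.map ((SheafHomX.homMap f).app N)) (isAffineOpen_top _) (a'.app ⊤ (1 : Γ((U : Scheme.{u}), ⊤)))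
  obtain ⟨b', hb'⟩ : ∃ b' : Coh.structureModule U ⟶ F.obj ((SheafHomX.hom E).obj N),
      b' ≫ F.map ((SheafHomX.homMap f).app N) = a' := by
    refine ⟨QCoh.homOfTop s, Scheme.Modules.hom_ext _ _ fun W => ?_⟩
    ext r
    show (F.map ((SheafHomX.homMap f).app N)).app W ((QCoh.homOfTop s).app W (show Γ((U : Scheme.{u}), W) from r)) =
      a'.app W r
    rw [QCoh.homOfTop_app]
    refine (Scheme.Modules.Hom.app_smul _ _ _).trans ?_
    rw [ZClosLib.app_res _ _ s, hs, ← ZClosLib.app_res a']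
    refine (Scheme.Modules.Hom.app_smul a' _ _).symm.trans (congrArg (a'.app W) ?_)
    show (show Γ((U : Scheme.{u}), W) from r) * ((U : Scheme.{u}).presheaf.map _ 1) = _
    rw [map_one, mul_one]
  let b := (A.homEquiv _ _).symm b'
  have hb : b ≫ (SheafHomX.homMap f).app N = a := by
    apply (A.homEquiv _ _).injective
    rw [A.homEquiv_naturality_right, Equiv.apply_symm_apply]
    exact hb'
  let m' := ((SheafHomX.adj E).homEquiv _ _).symm b
  refine ⟨A.homEquiv _ _ ((shriekTen U E).hom ≫ m'), ?_⟩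
  rw [← A.homEquiv_naturality_left, ← Category.assoc, shriekTen_naturality, Category.assoc]
  have h := SheafHomX.homEquiv_homMap f b
  rw [hb] at h
  rw [show ((SheafHomX.adj K).homEquiv _ _).symm a = l' from Equiv.symm_apply_apply _ _] at h
  erw [← h]
  rw [Iso.hom_inv_id_assoc, Equiv.apply_symm_apply]

/-- A retract of a finite locally free module is finite locally free. -/
theorem isFinLocFree_of_retract {E F : X.Modules} (hE : FlatMod.IsFinLocFree E) (hF : CohB1.IsFP F)
    (i : F ⟶ E) (p : E ⟶ F) (h : i ≫ p = 𝟙 F) : FlatMod.IsFinLocFree F := by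
  refine QCoh.isFlat_and_isFP_iff.1 ⟨fun x => ?_, hF⟩
  haveI hflat : Module.Flat (X.presheaf.stalk x) (E.presheaf.stalk x) := (QCoh.isFlat_and_isFP_iff.2 hE).1 x
  haveI : Module.Flat (X.presheaf.stalk x) ((KFlatLib.stalkP x).obj (DCoh.toP.obj E)) := hflat
  let i' := ((KFlatLib.stalkP x).map (DCoh.toP.map i)).hom
  let p' := ((KFlatLib.stalkP x).map (DCoh.toP.map p)).hom
  have hip : p'.comp i' = LinearMap.id := by
    rw [← ModuleCat.hom_comp, ← Functor.map_comp, ← Functor.map_comp, h, CategoryTheory.Functor.map_id,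
      CategoryTheory.Functor.map_id]
    rfl
  exact Module.Flat.of_retract i' p' hip

/-- With an epimorphism of duals into an invertible module, a map out of a locally free module is locally split. -/
theorem exists_retraction [IsLocallyNoetherian X] {K E N : X.Modules} (f : K ⟶ E) (h₁ : FlatMod.IsFinLocFree K)
    (h₂ : Coh.IsCoh E) (hN : PicF.IsInvertible N) [Epi ((SheafHomX.homMap f).app N)] (x : X) :
    ∃ U : X.Opens, x ∈ U ∧ ∃ r : E.restrict U.ι ⟶ K.restrict U.ι,
      (Scheme.Modules.restrictFunctor U.ι).map f ≫ r = 𝟙 _ := by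
  obtain ⟨V₀, n, hx, ⟨e⟩⟩ := h₁ x
  obtain ⟨V₁, hx₁, ⟨eN⟩⟩ := hN x
  obtain ⟨_, ⟨U, hU, rfl⟩, hxU, hle⟩ := X.isBasis_affineOpens.exists_subset_of_mem_open
    (show x ∈ V₀ ⊓ V₁ from ⟨hx, hx₁⟩) (V₀ ⊓ V₁).2
  let U' : X.Opens := U
  show ∃ U : X.Opens, _
  refine ⟨U', hxU, ?_⟩
  change ∃ r : E.restrict U'.ι ⟶ K.restrict U'.ι, (Scheme.Modules.restrictFunctor U'.ι).map f ≫ r = 𝟙 _
  have hle₁ : U' ≤ V₁ := fun y hy => (hle hy).2
  let R := Scheme.Modules.restrictFunctor U'.ι
  let e' := KFlatLib.restrictFreeIso (show U' ≤ V₀ from fun y hy => (hle hy).1) e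
  let c : R.obj N ≅ Coh.structureModule U' :=
    (Scheme.Modules.restrictFunctorCongr (X.homOfLE_ι hle₁).symm).app N ≪≫
      (Scheme.Modules.restrictFunctorComp _ _).app N ≪≫
      (Scheme.Modules.restrictFunctor (X.homOfLE hle₁)).mapIso eN ≪≫
      KFlatLib.restrictStructureIso (X.homOfLE hle₁)
  let T' : Fin n → (U' : Scheme.{u}).Modules := fun _ => Coh.structureModule U'
  let g : K.restrict U'.ι ≅ ⨁ T' := e' ≪≫ (biproduct.isoCoproduct T').symm
  have hN' : Coh.IsCoh N := CurveDeg.isCoh_of_isInvertible hN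
  have hext : ∀ j, ∃ m : E.restrict U'.ι ⟶ N.restrict U'.ι, R.map f ≫ m = g.hom ≫ biproduct.π T' j ≫ c.inv :=
    fun j => exists_extend U' f (SheafHomX.isCoh_hom h₂ hN').1
      (SheafHomX.isCoh_hom (QCoh.isCoh_iff_isFP.2 (QCoh.isFP_of_isFinLocFree h₁)) hN').1 hU _
  choose m hm using hext
  refine ⟨biproduct.lift (fun j => m j ≫ c.hom) ≫ g.inv, ?_⟩
  rw [← cancel_mono g.hom, Category.id_comp]
  simp only [Category.assoc, Iso.inv_hom_id, Category.comp_id]
  apply biproduct.hom_ext
  intro j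
  rw [Category.assoc, biproduct.lift_π, ← Category.assoc, hm j, Category.assoc, Category.assoc, c.inv_hom_id,
    Category.comp_id]

theorem mono_of_epi_homMap [IsLocallyNoetherian X] {K E N : X.Modules} (f : K ⟶ E) (h₁ : FlatMod.IsFinLocFree K)
    (h₂ : Coh.IsCoh E) (hN : PicF.IsInvertible N) [Epi ((SheafHomX.homMap f).app N)] : Mono f := by
  choose U hxU r hr using fun x => exists_retraction f h₁ h₂ hN x
  refine ZClosLib.mono_of_app_injective f (ZClosLib.app_injective_of_good f (fun W => ∃ x, W ≤ U x)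
    (fun V x hx => ⟨V ⊓ U x, inf_le_left, ⟨hx, hxU x⟩, x, inf_le_right⟩) fun W hW s t hst => ?_)
  obtain ⟨x, hWx⟩ := hW
  let R := Scheme.Modules.restrictFunctor (U x).ι
  haveI : Mono (R.map f) := (SplitMono.mk (r x) (hr x)).mono
  have h := ZClosLib.app_injective_of_mono (R.map f) ((U x).ι ⁻¹ᵁ W)
  have e : (U x).ι ''ᵁ (U x).ι ⁻¹ᵁ W = W := by
    rw [Scheme.Hom.image_preimage_eq_opensRange_inf, Scheme.Opens.opensRange_ι]
    exact inf_eq_right.2 hWx
  revert s t
  rw [← e]
  exact fun s t hst => h hst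

/-- An extension of locally free modules with epimorphism of duals is locally free. -/
theorem isFinLocFree_of_epi_homMap [IsLocallyNoetherian X] {S : ShortComplex X.Modules} (hS : S.ShortExact)
    (h₁ : FlatMod.IsFinLocFree S.X₁) (h₂ : FlatMod.IsFinLocFree S.X₂) (h₃ : Coh.IsCoh S.X₃) {N : X.Modules}
    (hN : PicF.IsInvertible N) [Epi ((SheafHomX.homMap S.f).app N)] : FlatMod.IsFinLocFree S.X₃ := by
  choose U hxU r hr using fun x => exists_retraction S.f h₁
    (QCoh.isCoh_iff_isFP.2 (QCoh.isFP_of_isFinLocFree h₂)) hN x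
  refine ConsPropLib.isFinLocFree_of_cover (fun x => (U x).ι) (fun x => ⟨x, ⟨x, hxU x⟩, rfl⟩) fun x => ?_
  let R := Scheme.Modules.restrictFunctor (U x).ι
  let T := S.map R
  have hT : T.ShortExact := hS.map_of_exact R
  let sp := ShortComplex.Splitting.ofExactOfRetraction T hT.exact (r x) (hr x) hT.epi_g
  exact isFinLocFree_of_retract (ConsPropLib.isFinLocFree_restrict (U x).ι h₂)
    (QCoh.isCoh_iff_isFP.1 (SheafHomX.isCoh_restrict (U x).ι h₃)) sp.s T.g sp.s_g

end Groth.Agent.PnVan
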