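import Groth.Agent.PnVan.HomEpi
import Groth.Agent.Lib.PnDualExtPn
import Groth.Agent.Lib.PnDualQCoh
import Groth.Agent.PnCoh.TwistQCoh
import Groth.Agent.AmpleVan.Vanish
import Groth.Agent.CycLib.StalkSES

/-!
# Vanishing of negative twists on projective space
-/

set_option linter.style.haveILetI false
set_option linter.unusedSectionVars false
set_option backward.isDefEq.respectTransparency false
set_option backward.isDefEq.respectTransparency.types false
set_option maxHeartbeats 1000000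

universe u

open CategoryTheory CategoryTheory.Limits AlgebraicGeometry TopologicalSpace Opposite
open Groth.Agent.PnCoh Groth.Agent.PnCoh.Finite Groth.Agent.PnDual

noncomputable section

attribute [local instance] CategoryTheory.Abelian.hasFiniteBiproducts

namespace Groth.Agent.PnVan

variable {k : Type u} [Field k] {r : ℕ}

/-- Projective space, as a `Proj`. -/
abbrev P (k : Type u) [Field k] (r : ℕ) : Scheme.{u} := Proj (CohB1.polyGrading r k)

instance overP : (P k r).Over (Spec (CommRingCat.of k)) :=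
  inferInstanceAs ((CohB1.ProjSpace r k).Over (Spec (CommRingCat.of k)))

instance noethP : IsNoetherian (P k r) := Proj16.isNoetherian_proj _

instance locNoethP : IsLocallyNoetherian (P k r) := (noethP (k := k) (r := r)).toIsLocallyNoetherian

/-- The dualising module. -/
abbrev om (k : Type u) [Field k] (r : ℕ) : (P k r).Modules :=
  Twist.twist (CohB1.polyGrading r k) (-((r : ℤ) + 1))

theorem invertible_twist (d : ℤ) : PicF.IsInvertible (Twist.twist (CohB1.polyGrading r k) d) :=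
  isInvertible_twist (coordsR k r) coordsR_mem coordsR_cover d

/-- The twist by `d`. -/
abbrev tw (d : ℤ) : (P k r).Modules ⥤ (P k r).Modules := twistF (𝒜 := CohB1.polyGrading r k) d

/-- Twisting is an equivalence. -/
def eqv (k : Type u) [Field k] (r : ℕ) (d : ℤ) : (P k r).Modules ≌ (P k r).Modules :=
  twistEquivalence (coordsR k r) coordsR_mem coordsR_cover d (-d) (add_neg_cancel d)

instance tw_equiv (d : ℤ) : (tw (k := k) (r := r) d).IsEquivalence :=
  (eqv k r d).isEquivalence_functor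

instance tw_additive (d : ℤ) : (tw (k := k) (r := r) d).Additive :=
  Functor.additive_of_preserves_binary_products _

theorem isCoh_tw {F : (P k r).Modules} (hF : Coh.IsCoh F) (d : ℤ) : Coh.IsCoh ((tw d).obj F) :=
  AmpleVan.isCoh_tensor hF (CurveDeg.isCoh_of_isInvertible (invertible_twist d))

theorem shortExact_tw {S : ShortComplex (P k r).Modules} (hS : S.ShortExact) (d : ℤ) :
    (S.map (tw d)).ShortExact := hS.map_of_exact _

theorem bij {F : (P k r).Modules} (hF : Coh.IsCoh F) (t : HTw r k (-((r : ℤ) + 1)) ≃ₗ[k] k) :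
    Function.Bijective (Canon.dualityMap k (P k r) r (om k r) t.toLinearMap F) :=
  bijective_top_pn t (goodPn_of_isCoh hF)

/-- Morphisms to `ω` extend along maps injective on top cohomology. -/
theorem surjective_precomp {A B : (P k r).Modules} (f : A ⟶ B) (hA : Coh.IsCoh A) (hB : Coh.IsCoh B)
    (hinj : Function.Injective (Canon.HHlin (X := P k r) k f r)) (φ : A ⟶ om k r) : ∃ w : B ⟶ om k r, f ≫ w = φ := by
  obtain ⟨t⟩ := exists_trace' (m := r) (R := k) (b := -((r : ℤ) + 1)) rfl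
  obtain ⟨ψ, hψ⟩ := LinearMap.dualMap_surjective_of_injective hinj
    (Canon.dualityMap k (P k r) r (om k r) t.toLinearMap A φ)
  obtain ⟨w, hw⟩ := (bij hB t).2 ψ
  refine ⟨w, (bij hA t).1 (LinearMap.ext fun x => ?_)⟩
  have h := LinearMap.congr_fun hψ x
  rw [← hw] at h
  refine Eq.trans ?_ h
  show t.toLinearMap (Canon.HHlin k (f ≫ w) r x) = t.toLinearMap (Canon.HHlin k w r (Canon.HHlin k f r x))
  rw [PnDual.HHlin_comp]

/-- The converse. -/
theorem injective_of_surjective_precomp {A B : (P k r).Modules} (f : A ⟶ B) (hA : Coh.IsCoh A)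
    (h : ∀ φ : A ⟶ om k r, ∃ w : B ⟶ om k r, f ≫ w = φ) : Function.Injective (Canon.HHlin k f r) := by
  obtain ⟨t⟩ := exists_trace' (m := r) (R := k) (b := -((r : ℤ) + 1)) rfl
  refine (injective_iff_map_eq_zero _).2 fun x hx => ?_
  refine (Module.forall_dual_apply_eq_zero_iff k x).1 fun ψ => ?_
  obtain ⟨φ, rfl⟩ := (bij hA t).2 ψ
  obtain ⟨w, rfl⟩ := h φ
  show t.toLinearMap (Canon.HHlin k (f ≫ w) r x) = 0
  rw [← PnDual.HHlin_comp, hx, map_zero, map_zero]

section Shift

variable {S : ShortComplex (P k r).Modules}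

theorem subsingleton_X₁_succ (hS : S.ShortExact) (i : ℕ) (h₃ : Subsingleton (Coh.HH (P k r) S.X₃ i))
    (h₂ : Subsingleton (Coh.HH (P k r) S.X₂ (i + 1))) : Subsingleton (Coh.HH (P k r) S.X₁ (i + 1)) :=
  subsingleton_of_forall_eq 0 fun x => by
    obtain ⟨y, rfl⟩ := (HHlin_f_eq_zero_iff (k := k) hS i x).1 (h₂.elim _ _)
    rw [h₃.elim y 0, map_zero]

theorem subsingleton_X₁_zero (hS : S.ShortExact) (h₂ : Subsingleton (Coh.HH (P k r) S.X₂ 0)) :
    Subsingleton (Coh.HH (P k r) S.X₁ 0) :=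
  (HHlin_f_injective (k := k) hS).subsingleton

theorem injective_top (hS : S.ShortExact) (i : ℕ) (hi : i + 1 = r)
    (h₃ : Subsingleton (Coh.HH (P k r) S.X₃ i)) : Function.Injective (Canon.HHlin k S.f r) := by
  refine (injective_iff_map_eq_zero _).2 fun x hx => ?_
  subst hi
  obtain ⟨y, rfl⟩ := (HHlin_f_eq_zero_iff (k := k) hS i x).1 hx
  rw [h₃.elim y 0, map_zero]

end Shift

/-- `H^i(F(d)) = 0` for `d ≪ 0`. -/
def NegVan (F : (P k r).Modules) (i : ℕ) : Prop :=
  ∃ m₀ : ℤ, ∀ d, d ≤ m₀ → Subsingleton (Coh.HH (P k r) ((tw d).obj F) i)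

theorem negVan_of_iso {F G : (P k r).Modules} (e : F ≅ G) {i : ℕ} (h : NegVan F i) : NegVan G i := by
  obtain ⟨m₀, hm⟩ := h
  exact ⟨m₀, fun d hd => QCoh.subsingleton_HH_of_iso ((tw d).mapIso e) i (hm d hd)⟩

theorem negVan_X₁_succ {S : ShortComplex (P k r).Modules} (hS : S.ShortExact) {i : ℕ} (h₃ : NegVan S.X₃ i)
    (h₂ : NegVan S.X₂ (i + 1)) : NegVan S.X₁ (i + 1) := by
  obtain ⟨a, ha⟩ := h₃
  obtain ⟨b, hb⟩ := h₂
  exact ⟨min a b, fun d hd => subsingleton_X₁_succ (S := S.map (tw d)) (shortExact_tw hS d) i (ha d (le_trans hd (min_le_left _ _)))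
    (hb d (le_trans hd (min_le_right _ _)))⟩

theorem negVan_X₁_zero {S : ShortComplex (P k r).Modules} (hS : S.ShortExact) (h₂ : NegVan S.X₂ 0) :
    NegVan S.X₁ 0 := by
  obtain ⟨b, hb⟩ := h₂
  exact ⟨b, fun d hd => subsingleton_X₁_zero (S := S.map (tw d)) (shortExact_tw hS d) (hb d hd)⟩

theorem negVan_X₃ {S : ShortComplex (P k r).Modules} (hS : S.ShortExact) {i : ℕ} (h₂ : NegVan S.X₂ i)
    (h₁ : NegVan S.X₁ (i + 1)) : NegVan S.X₃ i := by
  obtain ⟨a, ha⟩ := h₂
  obtain ⟨b, hb⟩ := h₁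
  exact ⟨min a b, fun d hd => subsingleton_HH_X₃ (S := S.map (tw d)) (shortExact_tw hS d) i (ha d (le_trans hd (min_le_left _ _)))
    (hb d (le_trans hd (min_le_right _ _)))⟩

theorem negVan_of_decomposition {E : (P k r).Modules} {ι : Type u} [Fintype ι] (e : ι → ℤ)
    (p : ∀ a, E ⟶ Twist.twist (CohB1.polyGrading r k) (e a))
    (q : ∀ a, Twist.twist (CohB1.polyGrading r k) (e a) ⟶ E) (h : ∑ a, p a ≫ q a = 𝟙 E) {i : ℕ} (hi : i < r) :
    NegVan E i := by
  refine ⟨-1 - ∑ a, |e a|, fun d hd => ?_⟩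
  obtain ⟨p', q', h'⟩ := exists_twisted_decomposition coordsR_mem coordsR_cover e p q h d
  refine PnCoh.Finite.subsingleton_HH_of_decomposition _ p' q' h' i fun a => ?_
  have h1 : |e a| ≤ ∑ b, |e b| :=
    Finset.single_le_sum (f := fun b => |e b|) (fun b _ => abs_nonneg _) (Finset.mem_univ a)
  have h2 := le_abs_self (e a)
  exact S0844.result k r (e a + d) i (fun h => by omega) (fun h => by omega)

/-- The adjunct of a morphism extending along `f` factors through `hom f`. -/
theorem exists_factor {K E : (P k r).Modules} (f : K ⟶ E) (d : ℤ)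
    (h : ∀ φ : (tw d).obj K ⟶ om k r, ∃ w, (tw d).map f ≫ w = φ)
    (u : Twist.twist (CohB1.polyGrading r k) d ⟶ (SheafHomX.hom K).obj (om k r)) :
    ∃ b, b ≫ (SheafHomX.homMap f).app (om k r) = u := by
  let σ := (KFlatLib.tensorBiFlipIso (P k r)).app (Twist.twist (CohB1.polyGrading r k) d)
  obtain ⟨w, hw⟩ := h (σ.hom.app K ≫ ((SheafHomX.adj K).homEquiv _ _).symm u)
  refine ⟨(SheafHomX.adj E).homEquiv _ _ (σ.inv.app E ≫ w), SheafHomX.hom_ext ?_⟩
  rw [SheafHomX.homEquiv_homMap, Equiv.symm_apply_apply, ← Category.assoc]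
  erw [σ.inv.naturality f]
  rw [Category.assoc, hw, σ.inv_hom_id_app_assoc]

/-- Dual maps are epi as soon as morphisms to `ω` extend after all very negative twists. -/
theorem epi_homMap {K E : (P k r).Modules} (f : K ⟶ E) (hK : Coh.IsCoh K) (N : ℤ)
    (h : ∀ d, d < N → ∀ φ : (tw d).obj K ⟶ om k r, ∃ w, (tw d).map f ≫ w = φ) :
    Epi ((SheafHomX.homMap f).app (om k r)) := by
  have hB : Coh.IsCoh ((SheafHomX.hom K).obj (om k r)) :=
    SheafHomX.isCoh_hom hK (CurveDeg.isCoh_of_isInvertible (invertible_twist _))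
  obtain ⟨ι, _, d, hd, S, p, q, hS, h3, -, hpq⟩ := exists_presentation_lt (goodPn_of_isCoh hB) N
  choose b hb using fun a => exists_factor f (d a) (h (d a) (hd a))
    (q a ≫ S.g ≫ eqToHom h3)
  haveI := hS.epi_g
  refine epi_of_epi_fac (f := ∑ a, p a ≫ b a) (h := S.g ≫ eqToHom h3) ?_
  rw [Preadditive.sum_comp, ← Category.id_comp (S.g ≫ eqToHom h3), ← hpq, Preadditive.sum_comp]
  refine Finset.sum_congr rfl fun a _ => ?_
  rw [Category.assoc, hb, Category.assoc]

/-- From the vanishing in degree `r - 1`. -/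
theorem epi_homMap_of_negVan {S : ShortComplex (P k r).Modules} (hS : S.ShortExact) (h₁ : Coh.IsCoh S.X₁)
    (h₂ : Coh.IsCoh S.X₂) {i : ℕ} (hi : i + 1 = r) (h : NegVan S.X₃ i) :
    Epi ((SheafHomX.homMap S.f).app (om k r)) := by
  obtain ⟨m₀, hm⟩ := h
  exact epi_homMap S.f h₁ (m₀ + 1) fun d hd φ =>
    surjective_precomp (A := (tw d).obj S.X₁) (B := (tw d).obj S.X₂) ((tw d).map S.f) (isCoh_tw h₁ d) (isCoh_tw h₂ d)
      (injective_top (S := S.map (tw d)) (shortExact_tw hS d) i hi (hm d (by omega))) φ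

/-- Finite sums of invertible modules are locally free. -/
theorem isFinLocFree_of_decomposition {E : (P k r).Modules} {ι : Type u} [Fintype ι] {T : ι → (P k r).Modules}
    (p : ∀ a, E ⟶ T a) (q : ∀ a, T a ⟶ E) (h : ∑ a, p a ≫ q a = 𝟙 E) (hT : ∀ a, PicF.IsInvertible (T a)) :
    FlatMod.IsFinLocFree E := by
  have hc : ∀ a, Coh.IsCoh (T a) := fun a => CurveDeg.isCoh_of_isInvertible (hT a)
  have hTl : ∀ a, FlatMod.IsFinLocFree (T a) := fun a y =>
    let ⟨U, hy, ⟨e⟩⟩ := hT a y
    ⟨U, 1, hy, ⟨e ≪≫ (coproductUniqueIso (fun _ : Fin 1 => Coh.structureModule (U : Scheme.{u}))).symm⟩⟩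
  have h' : biproduct.lift p ≫ biproduct.desc q = 𝟙 E := by
    calc biproduct.lift p ≫ biproduct.desc q
        = biproduct.lift p ≫ (∑ a, biproduct.π T a ≫ biproduct.ι T a) ≫ biproduct.desc q := by
          rw [biproduct_total, Category.id_comp]
      _ = 𝟙 E := by simp [Preadditive.comp_sum, Preadditive.sum_comp, h]
  have hTc : Coh.IsCoh (⨁ T) := by
    have hqc : Coh.IsQCoh (⨁ T) := isQCoh_biproduct T fun a => (hc a).1
    refine QCoh.isCoh_iff.2 ⟨hqc, fun U => finite_sections_biproduct T U.1 fun a => ?_⟩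
    exact QCoh.finite_sections (hc a) U.2
  have hE : Coh.IsCoh E := by
    haveI : Epi (biproduct.desc q) := (SplitEpi.mk (biproduct.lift p) h').epi
    exact QCoh.isCoh_of_epi (biproduct.desc q) hTc (isQCoh_of_retract hTc.1 _ _ h')
  refine QCoh.isFlat_and_isFP_iff.1 ⟨fun x => ?_, QCoh.isCoh_iff_isFP.1 hE⟩
  classical
  haveI : ∀ a, Module.Flat ((P k r).presheaf.stalk x) ((T a).presheaf.stalk x) := fun a =>
    (QCoh.isFlat_and_isFP_iff.2 (hTl a)).1 x
  let i : E.presheaf.stalk x →ₗ[(P k r).presheaf.stalk x] Π₀ a, (T a).presheaf.stalk x :=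
    ∑ a, (DFinsupp.lsingle a).comp (CycLib.stalkLin (p a) x)
  let j : (Π₀ a, (T a).presheaf.stalk x) →ₗ[(P k r).presheaf.stalk x] E.presheaf.stalk x :=
    DFinsupp.lsum ℕ fun a => CycLib.stalkLin (q a) x
  refine Module.Flat.of_retract i j (LinearMap.ext fun s => ?_)
  obtain ⟨U, hU, s, rfl⟩ := E.presheaf.exists_germ_eq s
  simp only [i, j, LinearMap.comp_apply, LinearMap.id_apply, LinearMap.sum_apply, map_sum, DFinsupp.lsum_single,
    DFinsupp.lsingle_apply]
  have h2 : ∀ F : Finset ι, ∑ a ∈ F, (p a ≫ q a).app U s = (∑ a ∈ F, p a ≫ q a).app U s := fun F => by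
    induction F using Finset.induction with
    | empty => rw [Finset.sum_empty, Finset.sum_empty]; rfl
    | insert a F ha ih => rw [Finset.sum_insert ha, Finset.sum_insert ha, ih]; rfl
  have h3 : ∀ a, CycLib.stalkLin (q a) x (CycLib.stalkLin (p a) x (E.presheaf.germ U x hU s)) =
      E.presheaf.germ U x hU ((p a ≫ q a).app U s) := fun a => by
    show CycLib.stalkAdd (q a) x (CycLib.stalkAdd (p a) x _) = _
    rw [CycLib.stalkAdd_germ, CycLib.stalkAdd_germ]
    rfl
  simp only [h3]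
  rw [← map_sum (E.presheaf.germ U x hU).hom, h2, h]
  rfl

/-- Locally free modules embed, locally split, into sums of twists. -/
theorem exists_embedding {E : (P k r).Modules} (hE : FlatMod.IsFinLocFree E) :
    ∃ S : ShortComplex (P k r).Modules, S.ShortExact ∧ S.X₁ = E ∧ FlatMod.IsFinLocFree S.X₃ ∧
      Coh.IsCoh S.X₂ ∧ ∀ i, i < r → NegVan S.X₂ i := by
  have hEc : Coh.IsCoh E := QCoh.isCoh_iff_isFP.2 (QCoh.isFP_of_isFinLocFree hE)
  have hom' := CurveDeg.isCoh_of_isInvertible (invertible_twist (k := k) (r := r) (-((r : ℤ) + 1)))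
  obtain ⟨ι, _, d, -, T, p, q, hT, h3, -, hpq⟩ :=
    exists_presentation_lt (goodPn_of_isCoh (k := k) (n := r) (SheafHomX.isCoh_hom (X := P k r) hEc hom')) 0
  let G : ι → (P k r).Modules := fun a => (eqv k r (d a)).inverse.obj (om k r)
  let φ : ∀ a, (tw (d a)).obj E ⟶ om k r := fun a =>
    ((KFlatLib.tensorBiFlipIso (P k r)).app (Twist.twist (CohB1.polyGrading r k) (d a))).hom.app E ≫
      ((SheafHomX.adj E).homEquiv _ _).symm (q a ≫ T.g ≫ eqToHom h3)
  let A := fun a => (eqv k r (d a)).toAdjunction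
  let v : E ⟶ ⨁ G := biproduct.lift fun a => (A a).homEquiv _ _ (φ a)
  haveI := hT.epi_g
  haveI hepi : Epi ((SheafHomX.homMap v).app (om k r)) := by
    have hb : ∀ a, ∃ b : Twist.twist (CohB1.polyGrading r k) (d a) ⟶ (SheafHomX.hom (⨁ G)).obj (om k r),
        b ≫ (SheafHomX.homMap v).app (om k r) = q a ≫ T.g ≫ eqToHom h3 := fun a => by
      let σ := (KFlatLib.tensorBiFlipIso (P k r)).app (Twist.twist (CohB1.polyGrading r k) (d a))
      let w : (tw (d a)).obj (⨁ G) ⟶ om k r :=
        (tw (d a)).map (biproduct.π G a) ≫ ((A a).homEquiv _ _).symm (𝟙 _)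
      have hw : (tw (d a)).map v ≫ w = φ a := by
        rw [← Functor.map_comp_assoc, biproduct.lift_π]
        refine ((A a).homEquiv_naturality_left_symm _ _).symm.trans ?_
        rw [Category.comp_id, Equiv.symm_apply_apply]
      refine ⟨(SheafHomX.adj (⨁ G)).homEquiv _ _ (σ.inv.app _ ≫ w), SheafHomX.hom_ext ?_⟩
      rw [SheafHomX.homEquiv_homMap, Equiv.symm_apply_apply, ← Category.assoc]
      erw [σ.inv.naturality v]
      rw [Category.assoc, hw, σ.inv_hom_id_app_assoc]
    choose b hb using hb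
    refine epi_of_epi_fac (f := ∑ a, p a ≫ b a) (h := T.g ≫ eqToHom h3) ?_
    rw [Preadditive.sum_comp, ← Category.id_comp (T.g ≫ eqToHom h3), ← hpq, Preadditive.sum_comp]
    refine Finset.sum_congr rfl fun a _ => ?_
    rw [Category.assoc, hb, Category.assoc]
  let g : ∀ a, G a ≅ Twist.twist (CohB1.polyGrading r k) (-((r : ℤ) + 1) + -(d a)) := fun a =>
    (twist_tensor_iso (coordsR k r) coordsR_mem coordsR_cover (-((r : ℤ) + 1)) (-(d a))).some
  have hdec : ∑ a, (biproduct.π G a ≫ (g a).hom) ≫ ((g a).inv ≫ biproduct.ι G a) = 𝟙 (⨁ G) := by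
    simp only [Category.assoc, Iso.hom_inv_id_assoc]
    exact biproduct_total G
  have hG : FlatMod.IsFinLocFree (⨁ G) := isFinLocFree_of_decomposition _ _ hdec
    fun a => invertible_twist _
  have hGc : Coh.IsCoh (⨁ G) := QCoh.isCoh_iff_isFP.2 (QCoh.isFP_of_isFinLocFree hG)
  have hom : PicF.IsInvertible (om k r) := invertible_twist _
  haveI : Mono v := mono_of_epi_homMap v hE hGc hom
  let S : ShortComplex (P k r).Modules := ShortComplex.mk v (cokernel.π v) (cokernel.condition v)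
  have hS : S.ShortExact := { exact := ShortComplex.exact_cokernel v }
  haveI : Epi ((SheafHomX.homMap S.f).app (om k r)) := hepi
  exact ⟨S, hS, rfl, isFinLocFree_of_epi_homMap hS hE hG (QCoh.isCoh_cokernel hEc.1 hGc v) hom, hGc,
    fun i hi => negVan_of_decomposition _ _ _ hdec hi⟩

/-- Locally free modules have no cohomology below the dimension after very negative twists. -/
theorem negVan_of_isFinLocFree : ∀ (i : ℕ), i < r → ∀ {E : (P k r).Modules}, FlatMod.IsFinLocFree E → NegVan E i := by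
  intro i
  induction i with
  | zero =>
    intro hi E hE
    obtain ⟨S, hS, rfl, -, -, h2⟩ := exists_embedding hE
    exact negVan_X₁_zero hS (h2 0 hi)
  | succ i ih =>
    intro hi E hE
    obtain ⟨S, hS, rfl, h3, -, h2⟩ := exists_embedding hE
    exact negVan_X₁_succ hS (ih (by omega) h3) (h2 _ hi)

end Groth.Agent.PnVan
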