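import Groth.Agent.PnVan.Twist
import Groth.Agent.LC.PdRegular
import Groth.Agent.CplFib6.Codepth
import Groth.Agent.Codepth5.Local
import Groth.Agent.GrpSchLib.SmoothRegular
import Groth.Agent.CurveEmbed.Conic
import Groth.Agent.SmoothReg.Scheme
import Groth.Agent.H23.PnChart
import Groth.Agent.S10829

/-!
# Negative twists and depth at closed points
-/

set_option linter.style.haveILetI false
set_option linter.unusedSectionVars false
set_option backward.isDefEq.respectTransparency false
set_option backward.isDefEq.respectTransparency.types false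
set_option maxHeartbeats 1000000

universe u

open CategoryTheory CategoryTheory.Limits AlgebraicGeometry TopologicalSpace Opposite
open Groth.Agent.PnCoh Groth.Agent.PnCoh.Finite Groth.Agent.PnDual

noncomputable section

attribute [local instance] CategoryTheory.Abelian.hasFiniteBiproducts

namespace Groth.Agent.PnVan

variable {k : Type u} [Field k] {r : ℕ}

instance regularP (x : P k r) : IsRegularLocalRing ((P k r).presheaf.stalk x) :=
  haveI := CurveEmbed.smooth_toSpec r k
  GrpSchLib.isRegularLocalRing_stalk_of_smooth (X := CohB1.ProjSpace r k) (CohB1.ProjSpace.toSpec r k) x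

theorem dim_closed {x : P k r} (hx : IsClosed ({x} : Set (P k r))) :
    ringKrullDim ((P k r).presheaf.stalk x) = r := by
  haveI : IsIntegral (CohB1.ProjSpace r k) := H23.PnChart.isIntegral_projSpace r k
  haveI := CurveEmbed.smooth_toSpec r k
  exact (SmoothReg.ringKrullDim_stalk_closedPoint (X := CohB1.ProjSpace r k) (CohB1.ProjSpace.toSpec r k) hx).trans
    (S10829.result k r)

theorem exists_closed_point {Z : Set (P k r)} (hZ : IsClosed Z) (hne : Z.Nonempty) :
    ∃ x ∈ Z, IsClosed ({x} : Set (P k r)) := by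
  haveI : CompactSpace (P k r) := inferInstance
  exact hZ.exists_closed_singleton hne

/-- Bounded projective dimension at closed points. -/
def PdC (F : (P k r).Modules) (j : ℕ) : Prop :=
  ∀ x : P k r, IsClosed ({x} : Set (P k r)) → RegLoc6.PdLE ((P k r).presheaf.stalk x) j (F.presheaf.stalk x)

variable {F : (P k r).Modules}

theorem finite_stalk (hF : Coh.IsCoh F) (x : P k r) :
    Module.Finite ((P k r).presheaf.stalk x) (F.presheaf.stalk x) :=
  QCoh.finite_stalk_of_isFT hF.1 hF.2 x

theorem natCast_le_depth_of_subsingleton (R : Type u) [CommRing R] [IsLocalRing R] [IsNoetherianRing R] (M : Type u)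
    [AddCommGroup M] [Module R M] [Subsingleton M] (n : ℕ) : (n : ℕ∞) ≤ LocCoh.depth R M := by
  haveI : Module.Finite R M := Module.Finite.of_surjective (0 : R →ₗ[R] M) fun y => ⟨0, Subsingleton.elim _ _⟩
  refine (LC.le_idealDepth_iff_ext (IsLocalRing.maximalIdeal R) M n).2 fun i _ => subsingleton_of_forall_eq 0 fun z => ?_
  have h : 𝟙 (ModuleCat.of R M) = 0 := ModuleCat.hom_ext (LinearMap.ext fun _ => Subsingleton.elim _ _)
  rw [← z.comp_mk₀_id, h, CategoryTheory.Abelian.Ext.mk₀_zero, CategoryTheory.Abelian.Ext.comp_zero]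

theorem depth_gt_iff (hF : Coh.IsCoh F) {x : P k r} (hx : IsClosed ({x} : Set (P k r))) {n j : ℕ}
    (hnj : n + 1 + j = r) :
    (n : ℕ∞) < LocCoh.depth ((P k r).presheaf.stalk x) (F.presheaf.stalk x) ↔
      RegLoc6.PdLE ((P k r).presheaf.stalk x) j (F.presheaf.stalk x) := by
  haveI := finite_stalk hF x
  set R := (P k r).presheaf.stalk x
  have hd := dim_closed hx
  constructor
  · intro h
    refine LC.pdLE_of_le_depth R r hd (F.presheaf.stalk x) j ?_
    have e : (r : ℕ∞) = (n : ℕ∞) + 1 + j := by exact_mod_cast hnj.symm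
    exact e.le.trans (add_le_add (ENat.add_one_le_iff (ENat.natCast_ne_top n) |>.2 h) le_rfl)
  · intro h
    rcases subsingleton_or_nontrivial (F.presheaf.stalk x) with hs | hs
    · exact lt_of_lt_of_le (Nat.cast_lt.2 n.lt_succ_self) (natCast_le_depth_of_subsingleton R _ (n + 1))
    rcases eq_or_ne (LocCoh.depth R (F.presheaf.stalk x)) ⊤ with htop | htop
    · rw [htop]; exact ENat.natCast_lt_top _
    haveI := LC.gorenstein_of_isRegularLocalRing (R := R)
    haveI := LC.isCohenMacaulayLocalRing_of_gorenstein (R := R)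
    have hdR : LocCoh.depth R R = (r : ℕ∞) := by
      have := LocCoh.IsCohenMacaulayLocalRing.supportDim_eq_depth (R := R)
      rw [Module.supportDim_self_eq_ringKrullDim, hd] at this
      exact_mod_cast this.symm
    have h2 := CplFib6.depth_add_ge R (F.presheaf.stalk x) j h
    rw [hdR] at h2
    obtain ⟨c, hc⟩ := ENat.ne_top_iff_exists.1 htop
    rw [← hc] at h2 ⊢
    have h2' : r ≤ c + j := by exact_mod_cast h2
    exact_mod_cast (show n < c by omega)

theorem pdC_dim (hF : Coh.IsCoh F) : PdC F r := fun x hx =>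
  haveI := finite_stalk hF x
  LC.pdLE_of_le_depth _ r (dim_closed hx) _ r le_add_self

theorem isFinLocFree_of_pdC_zero (hF : Coh.IsCoh F) (h : PdC F 0) : FlatMod.IsFinLocFree F := by
  have hfp := QCoh.isCoh_iff_isFP.1 hF
  let G : Set (P k r) := {x | ∃ (U : (P k r).Opens) (n : ℕ), x ∈ U ∧ Nonempty (F.restrict U.ι ≅ FlatMod.freeMod U n)}
  have hG : IsOpen G := isOpen_iff_forall_mem_open.2 fun x ⟨U, n, hx, e⟩ =>
    ⟨U, fun y hy => ⟨U, n, hy, e⟩, U.2, hx⟩
  intro x
  by_contra hx
  obtain ⟨y, hy, hyc⟩ := exists_closed_point hG.isClosed_compl ⟨x, hx⟩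
  haveI := finite_stalk hF y
  haveI : Module.Projective ((P k r).presheaf.stalk y) (F.presheaf.stalk y) := RegLoc6.pdLE_zero_iff.1 (h y hyc)
  haveI : Module.Free ((P k r).presheaf.stalk y) (F.presheaf.stalk y) := Module.free_of_flat_of_isLocalRing
  exact hy (QCoh.exists_free_nhd_of_free_stalk hfp y)

theorem pdC_of_isFinLocFree (h : FlatMod.IsFinLocFree F) : PdC F 0 := fun x _ => by
  haveI := QCoh.free_stalk_of_isFinLocFree h x
  exact RegLoc6.pdLE_zero_iff.2 inferInstance

/-- A presentation. -/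
theorem exists_pres (hF : Coh.IsCoh F) :
    ∃ S : ShortComplex (P k r).Modules, S.ShortExact ∧ S.X₃ = F ∧ Coh.IsCoh S.X₁ ∧ Coh.IsCoh S.X₂ ∧
      FlatMod.IsFinLocFree S.X₂ ∧ ∀ i, i < r → NegVan S.X₂ i := by
  obtain ⟨ι, _, d, -, S, p, q, hS, h3, hK, hpq⟩ := exists_presentation_lt (goodPn_of_isCoh hF) 0
  have hE : FlatMod.IsFinLocFree S.X₂ := isFinLocFree_of_decomposition p q hpq fun a => invertible_twist _
  have hEc : Coh.IsCoh S.X₂ := QCoh.isCoh_iff_isFP.2 (QCoh.isFP_of_isFinLocFree hE)
  haveI := hS.mono_f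
  exact ⟨S, hS, h3, QCoh.isCoh_of_mono S.f hEc hK.1, hEc, hE,
    fun i hi => negVan_of_decomposition d p q hpq hi⟩

theorem pdC_succ_iff {S : ShortComplex (P k r).Modules} (hS : S.ShortExact) (h₁ : Coh.IsCoh S.X₁)
    (h₂ : FlatMod.IsFinLocFree S.X₂) (h₃ : Coh.IsCoh S.X₃) (j : ℕ) : PdC S.X₃ (j + 1) ↔ PdC S.X₁ j := by
  refine forall₂_congr fun x hx => ?_
  obtain ⟨hi, hex, hsur⟩ := CycLib.stalk_shortExact hS h₁.1 (QCoh.isQCoh_of_isFinLocFree h₂) h₃.1 x
  haveI := QCoh.free_stalk_of_isFinLocFree h₂ x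
  rw [RegLoc6.pdLE_succ_iff (CycLib.stalkLin S.g x) hsur]
  let e := (LinearEquiv.ofInjective _ hi).trans (LinearEquiv.ofEq _ _ (LinearMap.exact_iff.1 hex).symm)
  exact ⟨fun h => RegLoc6.pdLE_of_equiv e.symm h, fun h => RegLoc6.pdLE_of_equiv e h⟩

/-- A coherent module with all lower negative cohomology vanishing is locally free. -/
theorem isFinLocFree_of_negVan : ∀ (j : ℕ) {F : (P k r).Modules}, Coh.IsCoh F → PdC F j →
    (∀ i, i < r → NegVan F i) → FlatMod.IsFinLocFree F := by
  intro j
  induction j with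
  | zero => exact fun hF h _ => isFinLocFree_of_pdC_zero hF h
  | succ j ih =>
    intro F hF hpd hv
    obtain ⟨S, hS, rfl, h1, h2c, h2, h2v⟩ := exists_pres hF
    have hK : FlatMod.IsFinLocFree S.X₁ := ih h1 ((pdC_succ_iff hS h1 h2 hF j).1 hpd) fun i hi => by
      cases i with
      | zero => exact negVan_X₁_zero hS (h2v 0 hi)
      | succ i => exact negVan_X₁_succ hS (hv i (by omega)) (h2v _ hi)
    rcases Nat.eq_zero_or_pos r with hr | hr
    · exact isFinLocFree_of_pdC_zero hF fun x hx => by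
        have h0 := pdC_dim hF x hx
        exact hr ▸ h0
    haveI := epi_homMap_of_negVan hS h1 h2c (i := r - 1) (by omega) (hv (r - 1) (by omega))
    exact isFinLocFree_of_epi_homMap hS hK h2 hF (invertible_twist (k := k) (r := r) (-((r : ℤ) + 1)))

/-- Vanishing of negative twists and projective dimension. -/
theorem pdC_iff_negVan : ∀ (j : ℕ), j ≤ r → ∀ {F : (P k r).Modules}, Coh.IsCoh F →
    (PdC F j ↔ ∀ i, i + j < r → NegVan F i) := by
  intro j
  induction j with
  | zero =>
    intro _ F hF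
    exact ⟨fun h i hi => negVan_of_isFinLocFree i hi (isFinLocFree_of_pdC_zero hF h),
      fun h => pdC_of_isFinLocFree (isFinLocFree_of_negVan r hF (pdC_dim hF) fun i hi => h i hi)⟩
  | succ j ih =>
    intro hj F hF
    obtain ⟨S, hS, rfl, h1, h2c, h2, h2v⟩ := exists_pres hF
    rw [pdC_succ_iff hS h1 h2 hF, ih (by omega) h1]
    constructor
    · exact fun h i hi => negVan_X₃ hS (h2v i (by omega)) (h (i + 1) (by omega))
    · intro h i hi
      cases i with
      | zero => exact negVan_X₁_zero hS (h2v 0 (by omega))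
      | succ i => exact negVan_X₁_succ hS (h i (by omega)) (h2v _ (by omega))

/-- All negative cohomology vanishes only for the zero module. -/
theorem isZero_of_negVan (hF : Coh.IsCoh F) (h : ∀ i, i ≤ r → NegVan F i) : IsZero F := by
  have hlf : FlatMod.IsFinLocFree F := isFinLocFree_of_negVan r hF (pdC_dim hF) fun i hi => h i hi.le
  obtain ⟨m₀, hm⟩ := h r le_rfl
  let Z : (P k r).Modules := F
  haveI : Epi ((SheafHomX.homMap (0 : F ⟶ F)).app (om k r)) :=
    epi_homMap (0 : F ⟶ F) hF (m₀ + 1) fun d hd φ =>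
      surjective_precomp _ (isCoh_tw hF d) (isCoh_tw hF d)
        (fun a b _ => (hm d (by omega)).elim a b) φ
  haveI := mono_of_epi_homMap (0 : F ⟶ F) hlf hF (invertible_twist (k := k) (r := r) (-((r : ℤ) + 1)))
  rw [IsZero.iff_id_eq_zero]
  exact (cancel_mono (0 : F ⟶ F)).1 (by simp)

end Groth.Agent.PnVan
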