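import Groth.Agent.PnVan.CM
import Groth.Agent.Lib.PnDualSheafHom
import Groth.Agent.AmpleVan.Pull

/-!
# `Ext` out of negatively twisted locally free modules
-/

set_option linter.style.haveILetI false
set_option linter.unusedSectionVars false
set_option backward.isDefEq.respectTransparency false
set_option backward.isDefEq.respectTransparency.types false
set_option maxHeartbeats 1000000

universe u

open CategoryTheory CategoryTheory.Limits AlgebraicGeometry TopologicalSpace Opposite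
open Groth.Agent.PnCoh Groth.Agent.PnCoh.Finite Groth.Agent.PnDual Groth.Agent.H23.PicMul

noncomputable section

namespace Groth.Agent.PnVan

variable {X : Scheme.{u}}

/-- `Hom(F, ω ⊗ N) = Hom(F, ω) ⊗ N`. -/
theorem hom_tensor_iso (F ω : X.Modules) {N : X.Modules} (hN : PicF.IsInvertible N) :
    Nonempty ((SheafHomX.hom F).obj (CohB1.tensorMod ω N) ≅ CohB1.tensorMod ((SheafHomX.hom F).obj ω) N) := by
  obtain ⟨D, -, ⟨e⟩⟩ := H23.PicInv.exists_inverse hN
  obtain ⟨c⟩ := H23.PicMul.comm D N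
  let E : X.Modules ≌ X.Modules := CategoryTheory.Equivalence.mk (AmpleVan.tw D) (AmpleVan.tw N)
    (AmpleVan.twUnit.symm ≪≫ (DCoh.tensorBi (X := X)).flip.mapIso (c ≪≫ e).symm ≪≫ (AmpleVan.twComp D N).symm)
    (AmpleVan.twComp N D ≪≫ (DCoh.tensorBi (X := X)).flip.mapIso e ≪≫ AmpleVan.twUnit)
  let adjD : AmpleVan.tw D ⊣ AmpleVan.tw N := E.toAdjunction
  obtain ⟨φ⟩ := H23.PicMul.comm D F
  let τ : AmpleVan.tw D ⋙ SheafHomX.ten F ≅ SheafHomX.ten F ⋙ AmpleVan.tw D :=
    AmpleVan.twComp D F ≪≫ (DCoh.tensorBi (X := X)).flip.mapIso φ ≪≫ (AmpleVan.twComp F D).symm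
  let ρ := Adjunction.rightAdjointUniq ((adjD.comp (SheafHomX.adj F)).ofNatIsoLeft τ)
    ((SheafHomX.adj F).comp adjD)
  exact ⟨(ρ.app ω).symm⟩

/-- Vanishing of `H^i(Hom(F, ω) ⊗ N)` gives vanishing of `Ext^i(F ⊗ D, ω)`. -/
theorem subsingleton_ext_tensor {k : Type u} [Field k] [X.Over (Spec (CommRingCat.of k))] [HasExt.{u} X.Modules]
    {F : X.Modules} (hF : FlatMod.IsFinLocFree F) {N D : X.Modules} (hN : PicF.IsInvertible N)
    (hD : PicF.IsInvertible D) (hDN : Nonempty (CohB1.tensorMod D N ≅ Coh.structureModule X)) (ω : X.Modules)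
    (i : ℕ) (h : Subsingleton (Coh.HH X (CohB1.tensorMod ((SheafHomX.hom F).obj ω) N) i)) :
    Subsingleton (Abelian.Ext (CohB1.tensorMod F D) ω i) := by
  haveI : EnoughInjectives X.Modules := inferInstanceAs (EnoughInjectives (SheafOfModules _))
  obtain ⟨e⟩ := hDN
  obtain ⟨c⟩ := H23.PicMul.comm N D
  let E : X.Modules ≌ X.Modules := CategoryTheory.Equivalence.mk (AmpleVan.tw D) (AmpleVan.tw N)
    (AmpleVan.twUnit.symm ≪≫ (DCoh.tensorBi (X := X)).flip.mapIso e.symm ≪≫ (AmpleVan.twComp D N).symm)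
    (AmpleVan.twComp N D ≪≫ (DCoh.tensorBi (X := X)).flip.mapIso (c ≪≫ e) ≪≫ AmpleVan.twUnit)
  haveI : E.functor.IsEquivalence := E.isEquivalence_functor
  haveI : E.inverse.IsEquivalence := E.isEquivalence_inverse
  haveI : E.inverse.Additive := Functor.additive_of_preserves_binary_products _
  obtain ⟨e₁⟩ := SiteBase.nonempty_ext_addEquiv_of_adjunction E.toAdjunction
    (show E.functor.obj F ≅ CohB1.tensorMod F D from Iso.refl _) i ω
  obtain ⟨e₂⟩ := PnDual.nonempty_ext_linearEquiv_HH (A := k) hF (CohB1.tensorMod ω N) i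
  obtain ⟨g⟩ := hom_tensor_iso F ω hN
  haveI := QCoh.subsingleton_HH_of_iso g.symm i h
  haveI : Subsingleton (Abelian.Ext F (E.inverse.obj ω) i) := e₂.toEquiv.subsingleton
  exact e₁.toEquiv.subsingleton

variable {k : Type u} [Field k] {r : ℕ} (i : X ⟶ P k r)

theorem isAmple_pull_twist [IsClosedImmersion i] :
    CohB1.IsAmple ((Scheme.Modules.pullback i).obj (Twist.twist (CohB1.polyGrading r k) 1)) := by
  classical
  have hT : CohB1.IsAmple (Twist.twist (CohB1.polyGrading r k) 1) := by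
    refine AmpleX.isAmple_twist_one (CohB1.polyGrading r k)
      (Finset.image (fun j : Fin (r + 1) => (MvPolynomial.X j : MvPolynomial (Fin (r + 1)) k)) Finset.univ)
      (fun f hf => ?_) (top_le_iff.1 fun y _ => ?_)
    · obtain ⟨j, -, rfl⟩ := Finset.mem_image.1 hf
      exact ProjPt.X_mem j
    · obtain ⟨j, hj⟩ := ProjUPX.cov_X y
      exact Opens.mem_iSup.2 ⟨⟨_, Finset.mem_image.2 ⟨j, Finset.mem_univ _, rfl⟩⟩, hj⟩
  haveI : CompactSpace (P k r) := hT.2.1
  haveI : CompactSpace X := i.isClosedEmbedding.compactSpace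
  exact AmpleVan.isAmple_pullback_of_isEmbedding i i.isClosedEmbedding.isEmbedding hT

theorem pull_twist_inverse (q : ℕ) :
    Nonempty (CohB1.tensorMod ((Scheme.Modules.pullback i).obj (Twist.twist (CohB1.polyGrading r k) (-(q : ℤ))))
      (CohB1.tensorPow ((Scheme.Modules.pullback i).obj (Twist.twist (CohB1.polyGrading r k) 1)) q) ≅
        Coh.structureModule X) := by
  refine cl_eq_iff.1 ?_
  have h := congrArg (PicF.pullCl i) (cl_twist_pow (k := k) (r := r) q)
  rw [pullCl_mul, pullCl_pow, pullCl_one] at h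
  rw [cl_tensor, cl_tensorPow]
  exact h

end Groth.Agent.PnVan
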