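import Groth.Agent.PnVan.Depth
import Groth.Agent.S14439
import Groth.Agent.Lib.RegEpiPn
import Groth.Agent.Lib.CurveTensor

/-!
# The splitting criterion on projective space
-/

set_option linter.style.haveILetI false
set_option linter.unusedSectionVars false
set_option backward.isDefEq.respectTransparency false
set_option backward.isDefEq.respectTransparency.types false
set_option maxHeartbeats 1000000

universe u

open CategoryTheory CategoryTheory.Limits AlgebraicGeometry TopologicalSpace Opposite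
open Groth.Agent.PnCoh Groth.Agent.PnCoh.Finite Groth.Agent.PnDual

noncomputable section

attribute [local instance] CategoryTheory.Abelian.hasFiniteBiproducts

namespace Groth.Agent.PnVan

variable {k : Type u} [Field k] {r : ℕ}

theorem twist_add (a b c : ℤ) (h : c = a + b) :
    Nonempty ((tw b).obj (Twist.twist (CohB1.polyGrading r k) a) ≅ Twist.twist (CohB1.polyGrading r k) c) := by
  obtain ⟨φ⟩ := twist_tensor_iso (coordsR k r) coordsR_mem coordsR_cover a b
  exact ⟨φ ≪≫ eqToIso (by rw [h])⟩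

theorem twist_zero : Nonempty (Coh.structureModule (P k r) ≅ Twist.twist (CohB1.polyGrading r k) 0) :=
  RegEpi.unitIso (k := k) (n := r)

theorem tw_tw (M : (P k r).Modules) (a b c : ℤ) (h : c = a + b) :
    Nonempty ((tw b).obj ((tw a).obj M) ≅ (tw c).obj M) :=
  RegEpi.twF_twF_iso (k := k) (n := r) M a b c h

theorem tw_zero (M : (P k r).Modules) : Nonempty ((tw 0).obj M ≅ M) := RegEpi.twF_zero_iso (k := k) (n := r) M

theorem subsingleton_of_retract {F G : (P k r).Modules} (i : G ⟶ F) (p : F ⟶ G) (h : i ≫ p = 𝟙 G) (q : ℕ)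
    (hs : Subsingleton (Coh.HH (P k r) F q)) : Subsingleton (Coh.HH (P k r) G q) :=
  subsingleton_of_forall_eq 0 fun x => by
    have := PnDual.HHlin_comp (R := k) i p q x
    rw [h, hs.elim (Canon.HHlin k i q x) 0, map_zero, PnDual.HHlin_id] at this
    exact this.symm

theorem HHlin_zero_apply {F G : (P k r).Modules} (q : ℕ) (x : Coh.HH (P k r) F q) :
    Canon.HHlin k (0 : F ⟶ G) q x = 0 := by
  have h := Sheaf.H.map_add_apply ((QCoh.toAbFunctor (P k r)).map (0 : F ⟶ G)) ((QCoh.toAbFunctor (P k r)).map 0) x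
  rw [← Functor.map_add, add_zero] at h
  exact left_eq_add.1 h

/-- The hypotheses of the splitting criterion. -/
structure Hc (F : (P k r).Modules) : Prop where
  coh : Coh.IsCoh F
  mid : ∀ (n : ℤ) (i : ℕ), 1 ≤ i → i < r → Subsingleton (Coh.HH (P k r) ((tw n).obj F) i)
  low : 1 ≤ r → NegVan F 0

theorem Hc.retract {F G : (P k r).Modules} (hF : Hc F) (hG : Coh.IsCoh G) (i : G ⟶ F) (p : F ⟶ G)
    (h : i ≫ p = 𝟙 G) : Hc G := by
  have h' : ∀ n : ℤ, (tw n).map i ≫ (tw n).map p = 𝟙 _ := fun n => by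
    rw [← Functor.map_comp, h, CategoryTheory.Functor.map_id]
  refine ⟨hG, fun n q h1 h2 => subsingleton_of_retract _ _ (h' n) q (hF.mid n q h1 h2), fun hr => ?_⟩
  obtain ⟨m₀, hm⟩ := hF.low hr
  exact ⟨m₀, fun d hd => subsingleton_of_retract _ _ (h' d) 0 (hm d hd)⟩

theorem exists_top_vanish {F : (P k r).Modules} (hF : Coh.IsCoh F) :
    ∃ M : ℤ, ∀ n, M ≤ n → 1 ≤ r → Subsingleton (Coh.HH (P k r) ((tw n).obj F) r) := by
  obtain ⟨m, hm⟩ := S14439.exists_regular k r F hF
  refine ⟨m - r, fun n hn hr => ?_⟩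
  obtain ⟨e, he⟩ : ∃ e : ℕ, n = m + ((e : ℤ) - r) := ⟨(n - (m - r)).toNat, by omega⟩
  have hR : ProjRegular.Reg0 (𝒜 := CohB1.polyGrading r k) ((tw m).obj F) := fun q hq => by
    obtain ⟨φ⟩ := ProjRegular.twist_twist_iso (k := k) (n := r) F m (-(q : ℤ))
    exact QCoh.subsingleton_HH_of_iso φ.symm q (hm q hq)
  obtain ⟨φ⟩ := ProjRegular.twist_twist_iso (k := k) (n := r) F m ((e : ℤ) - r)
  rw [he]
  exact QCoh.subsingleton_HH_of_iso φ r
    (ProjRegular.reg_add ProjRegular.coords_mem ProjRegular.coords_cover hR e r hr)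

/-- A regular module with nonvanishing top cohomology one step below has `O(-m)` as a summand. -/
theorem exists_summand {F : (P k r).Modules} (hF : Coh.IsCoh F) (m : ℤ)
    (hR : ProjRegular.Reg0 (𝒜 := CohB1.polyGrading r k) ((tw m).obj F))
    (hne : ¬ Subsingleton (Coh.HH (P k r) ((tw (m - ((r : ℤ) + 1))).obj F) r)) :
    ∃ (s : Twist.twist (CohB1.polyGrading r k) (-m) ⟶ F) (p : F ⟶ Twist.twist (CohB1.polyGrading r k) (-m)),
      s ≫ p = 𝟙 _ := by
  obtain ⟨t⟩ := exists_trace' (m := r) (R := k) (b := -((r : ℤ) + 1)) rfl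
  set n₀ := m - ((r : ℤ) + 1) with hn₀
  obtain ⟨φ, hφ⟩ : ∃ φ : (tw n₀).obj F ⟶ om k r, φ ≠ 0 := by
    by_contra! h
    refine hne (subsingleton_of_forall_eq 0 fun x => (Module.forall_dual_apply_eq_zero_iff k x).1 fun ψ => ?_)
    obtain ⟨φ, rfl⟩ := (bij (isCoh_tw hF n₀) t).2 ψ
    rw [h φ]
    exact LinearMap.congr_fun (map_zero (PnDual.dualityLin (k := k) t.toLinearMap ((tw n₀).obj F))) x
  obtain ⟨e₁⟩ := tw_tw F n₀ ((r : ℤ) + 1) m (by omega)
  obtain ⟨e₂⟩ := twist_add (k := k) (r := r) (-((r : ℤ) + 1)) ((r : ℤ) + 1) 0 (by omega)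
  obtain ⟨u⟩ := twist_zero (k := k) (r := r)
  let ψ : (tw m).obj F ⟶ Coh.structureModule (P k r) := e₁.inv ≫ (tw ((r : ℤ) + 1)).map φ ≫ e₂.hom ≫ u.inv
  have hψ : ψ ≠ 0 := fun h => hφ ((tw ((r : ℤ) + 1)).map_injective (by
    rw [Functor.map_zero]
    have h' := congrArg (fun z => e₁.hom ≫ z ≫ u.hom ≫ e₂.inv) h
    simpa [ψ] using h'))
  obtain ⟨J, π, hπ⟩ := ProjRegular.isGloballyGenerated ProjRegular.coords_mem ProjRegular.coords_cover
    ProjRegular.coords_noetherian (good_of_isCoh ProjRegular.coords_mem (isCoh_tw hF m)) hR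
  obtain ⟨s, hs⟩ : ∃ s : Coh.structureModule (P k r) ⟶ (tw m).obj F, s ≫ ψ ≠ 0 := by
    by_contra! h
    refine hψ ((cancel_epi π).1 ?_)
    rw [comp_zero]
    refine Sigma.hom_ext _ _ fun j => ?_
    rw [comp_zero, ← Category.assoc]
    exact h _
  obtain ⟨c, hc⟩ := Syzygy.endo_eq_smul_id (k := k) (S14439.hyp k r).one (s ≫ ψ)
  have hc0 : c ≠ 0 := fun h => hs (by rw [hc, h, zero_smul])
  have hsp : s ≫ (c⁻¹ • ψ) = 𝟙 _ := by
    rw [Linear.comp_smul, hc, smul_smul, inv_mul_cancel₀ hc0, one_smul]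
  obtain ⟨e₃⟩ := twist_add (k := k) (r := r) 0 (-m) (-m) (by omega)
  obtain ⟨e₄⟩ := tw_tw F m (-m) 0 (by omega)
  obtain ⟨e₅⟩ := tw_zero F
  refine ⟨e₃.inv ≫ (tw (-m)).map u.inv ≫ (tw (-m)).map s ≫ e₄.hom ≫ e₅.hom,
    e₅.inv ≫ e₄.inv ≫ (tw (-m)).map (c⁻¹ • ψ) ≫ (tw (-m)).map u.hom ≫ e₃.hom, ?_⟩
  simp only [Category.assoc, Iso.hom_inv_id_assoc]
  have a1 := congrArg (fun z => (tw (-m)).map z) hsp
  simp only [Functor.map_comp, CategoryTheory.Functor.map_id] at a1
  rw [reassoc_of% a1, ← Functor.map_comp_assoc, Iso.inv_hom_id, CategoryTheory.Functor.map_id, Category.id_comp,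
    Iso.inv_hom_id]

/-- A twist is a summand, with a bound. -/
theorem exists_twist_summand {F : (P k r).Modules} (hF : Hc F) (hF0 : ¬ IsZero F) (M : ℤ)
    (hM : ∀ n, M ≤ n → 1 ≤ r → Subsingleton (Coh.HH (P k r) ((tw n).obj F) r)) :
    ∃ (m : ℤ), m ≤ M + r ∧ ∃ (s : Twist.twist (CohB1.polyGrading r k) (-m) ⟶ F)
      (p : F ⟶ Twist.twist (CohB1.polyGrading r k) (-m)), s ≫ p = 𝟙 _ := by
  have hreg : ∀ m : ℤ, (∀ q, 1 ≤ q → q ≤ r → Subsingleton (Coh.HH (P k r) ((tw (m + -(q : ℤ))).obj F) q)) →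
      ProjRegular.Reg0 (𝒜 := CohB1.polyGrading r k) ((tw m).obj F) := fun m h q hq => by
    obtain ⟨e⟩ := tw_tw F m (-(q : ℤ)) (m + -(q : ℤ)) rfl
    refine QCoh.subsingleton_HH_of_iso e.symm q ?_
    rcases le_or_gt q r with h' | h'
    · exact h q hq h'
    · exact ProjRegular.subsingleton_HH_high (k := k) (n := r) hF.coh _ q h'
  rcases Nat.eq_zero_or_pos r with hr | hr
  · subst hr
    refine ⟨M, by simp, exists_summand hF.coh M (hreg M fun q h1 h2 => by omega) fun hsub => hF0 ?_⟩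
    have hc : Coh.IsCoh ((tw (M - ((0 : ℕ) + 1 : ℤ))).obj F) := isCoh_tw hF.coh _
    obtain ⟨J, π, hπ⟩ := ProjRegular.isGloballyGenerated ProjRegular.coords_mem ProjRegular.coords_cover
      ProjRegular.coords_noetherian (good_of_isCoh ProjRegular.coords_mem hc)
      (hreg _ fun q h1 h2 => by omega)
    have hz : ∀ s : Coh.structureModule (P k 0) ⟶ (tw (M - ((0 : ℕ) + 1 : ℤ))).obj F, s = 0 := fun s => by
      apply (RegEpi.evalOneLin_bijective k _).1
      exact (hsub.elim _ _).trans (map_zero _).symm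
    have hzero : IsZero ((tw (M - ((0 : ℕ) + 1 : ℤ))).obj F) := by
      rw [IsZero.iff_id_eq_zero]
      refine (cancel_epi π).1 (Sigma.hom_ext _ _ fun j => ?_)
      simp only [Category.comp_id, comp_zero]
      exact hz _
    obtain ⟨e₄⟩ := tw_tw F (M - ((0 : ℕ) + 1 : ℤ)) (-(M - ((0 : ℕ) + 1 : ℤ))) 0 (by omega)
    obtain ⟨e₅⟩ := tw_zero F
    exact IsZero.of_iso (Functor.map_isZero _ hzero) (e₄ ≪≫ e₅).symm
  have hex : ∃ n : ℤ, ¬ Subsingleton (Coh.HH (P k r) ((tw n).obj F) r) := by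
    by_contra! h
    refine hF0 (isZero_of_negVan hF.coh fun i hi => ?_)
    rcases Nat.eq_zero_or_pos i with h0 | h0
    · exact h0 ▸ hF.low hr
    rcases Nat.lt_or_ge i r with h1 | h1
    · exact ⟨0, fun d _ => hF.mid d i h0 h1⟩
    · obtain rfl : i = r := le_antisymm hi h1
      exact ⟨0, fun d _ => h d⟩
  obtain ⟨n₀, hn₀, hmax⟩ := Int.exists_greatest_of_bdd
    ⟨M, fun n hn => le_of_lt (lt_of_not_ge fun hle => hn (hM n hle hr))⟩ hex
  refine ⟨n₀ + 1 + r, ?_, exists_summand hF.coh _ (hreg _ fun q h1 h2 => ?_) ?_⟩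
  · have := lt_of_not_ge fun hle => hn₀ (hM n₀ hle hr)
    omega
  · rcases Nat.lt_or_ge q r with h3 | h3
    · exact hF.mid _ q h1 h3
    · obtain rfl : q = r := le_antisymm h2 h3
      by_contra hns
      have := hmax _ hns
      omega
  · rwa [show n₀ + 1 + (r : ℤ) - ((r : ℤ) + 1) = n₀ by ring]

/-- The splitting criterion. -/
theorem exists_iso_sigma : ∀ (N : ℕ) (F : (P k r).Modules) (M : ℤ), Hc F →
    (∀ n, M ≤ n → 1 ≤ r → Subsingleton (Coh.HH (P k r) ((tw n).obj F) r)) →
    Module.finrank k (Coh.HH (P k r) ((tw (M + r)).obj F) 0) ≤ N →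
    ∃ (b : ℕ) (a : Fin b → ℤ), Nonempty (F ≅ ∐ fun j => Twist.twist (CohB1.polyGrading r k) (a j)) := by
  intro N
  induction N using Nat.strong_induction_on with
  | _ N ih =>
    intro F M hF hM hN
    by_cases hF0 : IsZero F
    · refine ⟨0, Fin.elim0, ⟨hF0.iso ?_⟩⟩
      rw [IsZero.iff_id_eq_zero]
      exact Sigma.hom_ext _ _ fun j => j.elim0
    obtain ⟨m, hm, s, p, hsp⟩ := exists_twist_summand hF hF0 M hM
    have hTc : Coh.IsCoh (Twist.twist (CohB1.polyGrading r k) (-m)) :=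
      CurveDeg.isCoh_of_isInvertible (invertible_twist _)
    let G := kernel p
    let pr : F ⟶ G := kernel.lift p (𝟙 F - p ≫ s) (by
      rw [Preadditive.sub_comp, Category.id_comp, Category.assoc, hsp, Category.comp_id, sub_self])
    have hpr : kernel.ι p ≫ pr = 𝟙 G := by
      rw [← cancel_mono (kernel.ι p)]
      simp [pr, Preadditive.comp_sub]
      exact (Category.id_comp _).symm
    have hsum : pr ≫ kernel.ι p + p ≫ s = 𝟙 F := by simp [pr]
    have hG : Hc G := hF.retract (QCoh.isCoh_kernel hF.coh hTc p) (kernel.ι p) pr hpr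
    have hmap : ∀ n : ℤ, (tw n).map (kernel.ι p) ≫ (tw n).map pr = 𝟙 _ := fun n => by
      rw [← Functor.map_comp, hpr, CategoryTheory.Functor.map_id]
    let f := Canon.HHlin k ((tw (M + r)).map (kernel.ι p)) 0
    haveI : Module.Finite k (Coh.HH (P k r) ((tw (M + r)).obj F) 0) :=
      (S14439.hyp k r).fin _ (isCoh_tw hF.coh _)
    have hf : Function.Injective f := fun a b hab => by
      have := congrArg (Canon.HHlin k ((tw (M + r)).map pr) 0) hab
      simp only [f, PnDual.HHlin_comp] at this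
      rw [hmap, PnDual.HHlin_id, PnDual.HHlin_id] at this
      exact this
    have hlt : Module.finrank k (Coh.HH (P k r) ((tw (M + r)).obj G) 0) <
        Module.finrank k (Coh.HH (P k r) ((tw (M + r)).obj F) 0) := by
      rw [← LinearMap.finrank_range_of_inj hf]
      refine Submodule.finrank_lt fun htop => ?_
      obtain ⟨e⟩ := twist_add (k := k) (r := r) (-m) (M + r) (M + r - m) (by ring)
      have hzero : ∀ z : Coh.HH (P k r) (Twist.twist (CohB1.polyGrading r k) (M + r - m)) 0, z = 0 := fun z => by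
        obtain ⟨y, hy⟩ : Canon.HHlin k ((tw (M + r)).map s) 0 (Canon.HHlin k e.inv 0 z) ∈ LinearMap.range f :=
          htop ▸ Submodule.mem_top
        have h := congrArg (Canon.HHlin k ((tw (M + r)).map p ≫ e.hom) 0) hy
        simp only [f, PnDual.HHlin_comp] at h
        rw [← Functor.map_comp_assoc, kernel.condition, Functor.map_zero, zero_comp,
          Category.assoc, ← Functor.map_comp_assoc, hsp, CategoryTheory.Functor.map_id, Category.id_comp,
          Iso.inv_hom_id, PnDual.HHlin_id] at h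
        rw [← h]
        exact HHlin_zero_apply 0 y
      obtain ⟨d, hd⟩ : ∃ d : ℕ, M + r - m = (d : ℤ) := ⟨(M + r - m).toNat, by omega⟩
      obtain ⟨i₀⟩ := S0843.result k r d
      rw [hd] at hzero
      have hmem : (MvPolynomial.X 0 : MvPolynomial (Fin (r + 1)) k) ^ d ∈
          MvPolynomial.homogeneousSubmodule (Fin (r + 1)) k d := by
        simpa using (MvPolynomial.isHomogeneous_X k (0 : Fin (r + 1))).pow d
      have h0 := (hzero (i₀.symm ⟨_, hmem⟩))
      have := congrArg i₀ h0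
      rw [LinearEquiv.apply_symm_apply, map_zero] at this
      exact pow_ne_zero d (MvPolynomial.X_ne_zero (0 : Fin (r + 1))) (congrArg Subtype.val this)
    obtain ⟨b, a, ⟨e⟩⟩ := ih _ (lt_of_lt_of_le hlt hN) G M hG
      (fun n hn hr => subsingleton_of_retract _ _ (hmap n) r (hM n hn hr)) le_rfl
    let T : Fin (b + 1) → (P k r).Modules := fun j => Twist.twist (CohB1.polyGrading r k) ((Fin.cons (-m) a : Fin (b + 1) → ℤ) j)
    refine ⟨b + 1, Fin.cons (-m) a, ⟨?_⟩⟩
    show F ≅ ∐ T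
    exact
      { hom := p ≫ Sigma.ι T 0 + pr ≫ e.hom ≫ Sigma.desc (fun j => Sigma.ι T j.succ)
        inv := Sigma.desc (fun j => Fin.cases (motive := fun j => T j ⟶ F) s
          (fun j => Sigma.ι (fun j => Twist.twist (CohB1.polyGrading r k) (a j)) j ≫ e.inv ≫ kernel.ι p) j)
        hom_inv_id := by
          rw [Preadditive.add_comp, Category.assoc, Category.assoc, Category.assoc, Sigma.ι_desc, add_comm]
          refine Eq.trans ?_ hsum
          congr 1
          refine congrArg (pr ≫ ·) ((congrArg (e.hom ≫ ·) ?_).trans (e.hom_inv_id_assoc _))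
          refine Sigma.hom_ext _ _ fun j => ?_
          rw [Sigma.ι_desc_assoc, Sigma.ι_desc]
          rfl
        inv_hom_id := by
          refine Sigma.hom_ext _ _ fun j => ?_
          have hs0 : s ≫ pr = 0 := by
            rw [← cancel_mono (kernel.ι p)]
            simp [pr, Preadditive.comp_sub, reassoc_of% hsp]
          refine Fin.cases ?_ (fun j => ?_) j
          · rw [Sigma.ι_desc_assoc, Category.comp_id]
            simp [Preadditive.comp_add, reassoc_of% hsp, reassoc_of% hs0]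
          · rw [Sigma.ι_desc_assoc, Category.comp_id]
            simp [Preadditive.comp_add, reassoc_of% hpr]
            erw [Category.id_comp, e.inv_hom_id_assoc, Sigma.ι_desc] }

/-- Vanishing for sums of twists. -/
theorem hc_sigma {b : ℕ} (a : Fin b → ℤ) : Hc (∐ fun j => Twist.twist (CohB1.polyGrading r k) (a j)) := by
  classical
  let a' : ULift.{u} (Fin b) → ℤ := fun j => a j.down
  let T : ULift.{u} (Fin b) → (P k r).Modules := fun j => Twist.twist (CohB1.polyGrading r k) (a' j)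
  let e : (∐ fun j => Twist.twist (CohB1.polyGrading r k) (a j)) ≅ ⨁ T :=
    Sigma.whiskerEquiv (f := fun j => Twist.twist (CohB1.polyGrading r k) (a j)) (g := T)
      Equiv.ulift.symm (fun _ => Iso.refl _) ≪≫ (biproduct.isoCoproduct T).symm
  have h : ∑ j, (e.hom ≫ biproduct.π T j) ≫ (biproduct.ι T j ≫ e.inv) = 𝟙 _ := by
    have h' := congrArg (fun z => e.hom ≫ z ≫ e.inv) (biproduct_total T)
    simpa [Preadditive.comp_sum, Preadditive.sum_comp] using h'
  refine ⟨?_, fun n i h1 h2 => ?_, fun hr => negVan_of_decomposition a' _ _ h hr⟩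
  · exact QCoh.isCoh_iff_isFP.2 (QCoh.isFP_of_isFinLocFree
      (isFinLocFree_of_decomposition _ _ h fun j => invertible_twist _))
  · obtain ⟨p', q', h'⟩ := exists_twisted_decomposition coordsR_mem coordsR_cover a' _ _ h n
    exact PnCoh.Finite.subsingleton_HH_of_decomposition _ p' q' h' i fun j =>
      S0844.result k r (a' j + n) i (fun h => by omega) (fun h => by omega)

/-- Horrocks. -/
theorem iso_sigma_iff {F : (P k r).Modules} (hF : Coh.IsCoh F) :
    (∃ (b : ℕ) (a : Fin b → ℤ), Nonempty (F ≅ ∐ fun j => Twist.twist (CohB1.polyGrading r k) (a j))) ↔ Hc F := by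
  refine ⟨fun ⟨b, a, ⟨e⟩⟩ => (hc_sigma a).retract hF e.hom e.inv e.hom_inv_id, fun h => ?_⟩
  obtain ⟨M, hM⟩ := exists_top_vanish hF
  exact exists_iso_sigma _ F M h hM le_rfl

/-- A sum of `b` invertible modules has rank `b`. -/
theorem isFinLocFreeOfRank_sigma {X : Scheme.{u}} {b : ℕ} (T : Fin b → X.Modules)
    (hT : ∀ j, PicF.IsInvertible (T j)) : FlatMod.IsFinLocFreeOfRank b (∐ T) := by
  intro x
  choose U hxU hU using fun j => hT j x
  let V : X.Opens := ⟨⋂ j, (U j : Set X), isOpen_iInter_of_finite fun j => (U j).2⟩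
  have hle : ∀ j, V ≤ U j := fun j y hy => Set.mem_iInter.1 hy j
  exact ⟨V, Set.mem_iInter.2 hxU, ⟨PreservesCoproduct.iso (Scheme.Modules.restrictFunctor V.ι) T ≪≫
    Sigma.mapIso fun j => (Scheme.Modules.restrictFunctorCongr (X.homOfLE_ι (hle j)).symm).app (T j) ≪≫
      (Scheme.Modules.restrictFunctorComp _ _).app (T j) ≪≫
      (Scheme.Modules.restrictFunctor (X.homOfLE (hle j))).mapIso (hU j).some ≪≫
      KFlatLib.restrictStructureIso (X.homOfLE (hle j))⟩⟩

/-- Ranks are unique on a nonempty scheme. -/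
theorem rank_unique {X : Scheme.{u}} [Nonempty X] {M : X.Modules} {a b : ℕ}
    (ha : FlatMod.IsFinLocFreeOfRank a M) (hb : FlatMod.IsFinLocFreeOfRank b M) : a = b := by
  obtain ⟨x⟩ := ‹Nonempty X›
  obtain ⟨p⟩ := CurveTensor.exists_basis_stalk ha x
  obtain ⟨q⟩ := CurveTensor.exists_basis_stalk hb x
  simpa using Fintype.card_congr (p.indexEquiv q)

/-- The rank is transported along isomorphisms. -/
theorem rank_of_iso {X : Scheme.{u}} {M N : X.Modules} (e : M ≅ N) {a : ℕ}
    (h : FlatMod.IsFinLocFreeOfRank a M) : FlatMod.IsFinLocFreeOfRank a N := fun x =>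
  let ⟨U, hx, ⟨i⟩⟩ := h x
  ⟨U, hx, ⟨((Scheme.Modules.restrictFunctor U.ι).mapIso e).symm ≪≫ i⟩⟩

/-- Extensions of `O(b)` by `O(a)` are classified by `H¹(O(a - b))`. -/
theorem subsingleton_ext_one [HasExt.{u} (P k r).Modules] (hr : r ≠ 1) (a b : ℤ) :
    Subsingleton (CategoryTheory.Abelian.Ext.{u} (Twist.twist (CohB1.polyGrading r k) b)
      (Twist.twist (CohB1.polyGrading r k) a) 1) :=
  subsingleton_ext_twist (coordsR k r) coordsR_mem coordsR_cover b a 1
    (S0844.result k r (a - b) 1 (fun h => by omega) (fun h => by omega))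

/-- A short exact sequence splits when `Ext¹` vanishes. -/
theorem exists_splitting {S : ShortComplex (P k r).Modules} [HasExt.{u} (P k r).Modules] (hS : S.ShortExact)
    (h : Subsingleton (CategoryTheory.Abelian.Ext.{u} S.X₃ S.X₁ 1)) : Nonempty S.Splitting := by
  obtain ⟨x, hx⟩ := CategoryTheory.Abelian.Ext.covariant_sequence_exact₃ S.X₃ hS
    (CategoryTheory.Abelian.Ext.mk₀ (𝟙 S.X₃)) rfl (h.elim _ _)
  obtain ⟨σ, rfl⟩ := (CategoryTheory.Abelian.Ext.mk₀_bijective _ _).2 x
  rw [CategoryTheory.Abelian.Ext.mk₀_comp_mk₀] at hx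
  exact ⟨ShortComplex.Splitting.ofExactOfSection S hS.exact σ
    ((CategoryTheory.Abelian.Ext.mk₀_bijective _ _).1 hx) hS.mono_f⟩

end Groth.Agent.PnVan
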