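import Groth.Agent.PnVan.Closed
import Groth.Agent.PnVan.Split
import Groth.Agent.AmpleNeg.Basic
import Groth.Agent.Lib.AmpleEmbed

/-!
# Negative powers of ample modules and depth
-/

set_option linter.style.haveILetI false
set_option linter.unusedSectionVars false
set_option backward.isDefEq.respectTransparency false
set_option backward.isDefEq.respectTransparency.types false
set_option maxHeartbeats 1000000

universe u

open CategoryTheory CategoryTheory.Limits AlgebraicGeometry TopologicalSpace Opposite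
open Groth.Agent.PnCoh Groth.Agent.PnCoh.Finite Groth.Agent.PnDual Groth.Agent.H23.PicMul

noncomputable section

namespace Groth.Agent.PnVan

variable {X : Scheme.{u}}

/-- Tensoring with an invertible module does not change depths. -/
theorem depth_tensor {N : X.Modules} (hN : PicF.IsInvertible N) (M : X.Modules) (x : X)
    [IsNoetherianRing (X.presheaf.stalk x)] :
    LocCoh.depth (X.presheaf.stalk x) ((CohB1.tensorMod M N).presheaf.stalk x) =
      LocCoh.depth (X.presheaf.stalk x) (M.presheaf.stalk x) := by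
  obtain ⟨U, hx, e, he⟩ := InvX.exists_frame hN x
  obtain ⟨f⟩ := AmpleNeg.exists_stalkEquiv (M := M) hx he
  exact (Hensel.depth_congr f).symm

theorem tensor_one_iso (M : X.Modules) : Nonempty (CohB1.tensorMod (Coh.structureModule X) M ≅ M) :=
  cl_eq_iff.1 (by rw [cl_tensor, ← one_def, one_mul])

variable {k : Type u} [Field k] {r : ℕ} (i : X ⟶ P k r)

theorem cl_twist_pow (q : ℕ) :
    PicF.cl (Twist.twist (CohB1.polyGrading r k) (-(q : ℤ))) * PicF.cl (Twist.twist (CohB1.polyGrading r k) 1) ^ q = 1 := by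
  rw [← cl_tensorPow, one_def]
  obtain ⟨e⟩ := twist_tensorPow_iso (coordsR k r) coordsR_mem coordsR_cover q
  obtain ⟨f⟩ := twist_tensor_iso (coordsR k r) coordsR_mem coordsR_cover (-(q : ℤ)) q
  obtain ⟨g⟩ := twist_zero (k := k) (r := r)
  rw [cl_eq_iff.2 ⟨e.symm⟩, ← cl_tensor]
  exact cl_eq_iff.2 ⟨f ≪≫ eqToIso (by rw [neg_add_cancel]) ≪≫ g.symm⟩

/-- Pullbacks of negative twists are powers of the inverse. -/
theorem pull_twist_neg {L M : X.Modules} (hM : ClSub.IsInverseOf L M) {b : ℕ}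
    (hb : Nonempty ((Scheme.Modules.pullback i).obj (Twist.twist (CohB1.polyGrading r k) 1) ≅ CohB1.tensorPow L b))
    (q : ℕ) : Nonempty ((Scheme.Modules.pullback i).obj (Twist.twist (CohB1.polyGrading r k) (-(q : ℤ))) ≅
      CohB1.tensorPow M (b * q)) := by
  refine cl_eq_iff.1 ?_
  have h1 : PicF.cl M * PicF.cl L = 1 := by
    rw [mul_comm, ← cl_tensor, one_def]; exact cl_eq_iff.2 hM
  have h2 : PicF.pullCl i (PicF.cl (Twist.twist (CohB1.polyGrading r k) (-(q : ℤ)))) *
      PicF.cl L ^ (b * q) = 1 := by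
    have h := congrArg (PicF.pullCl i) (cl_twist_pow (k := k) (r := r) q)
    rw [pullCl_mul, pullCl_pow, pullCl_one] at h
    rw [show PicF.pullCl i (PicF.cl (Twist.twist (CohB1.polyGrading r k) 1)) = PicF.cl (CohB1.tensorPow L b) from
      cl_eq_iff.2 hb, cl_tensorPow, ← pow_mul] at h
    exact h
  rw [cl_tensorPow]
  refine (left_inv_eq_right_inv h2 ?_)
  rw [← mul_pow, mul_comm, h1, one_pow]

/-- Depth at least `n` at the closed points kills `H^j(F ⊗ M^m)` for `j < n` and `m ≫ 0`. -/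
theorem eventually_subsingleton_of_depth [IsClosedImmersion i] {L M : X.Modules} (hL : PicF.IsInvertible L)
    (hM : ClSub.IsInverseOf L M) {b : ℕ} (hb0 : 0 < b)
    (hb : Nonempty ((Scheme.Modules.pullback i).obj (Twist.twist (CohB1.polyGrading r k) 1) ≅ CohB1.tensorPow L b))
    {F : X.Modules} (hF : Coh.IsCoh F) {n : ℕ}
    (h : ∀ x : X, IsClosed ({x} : Set X) → (n : ℕ∞) ≤ LocCoh.depth (X.presheaf.stalk x) (F.presheaf.stalk x))
    (j : ℕ) (hj : j < n) :
    ∃ m₀ : ℕ, ∀ m : ℕ, m₀ ≤ m → Subsingleton (Coh.HH X (CohB1.tensorMod F (CohB1.tensorPow M m)) j) := by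
  haveI : IsLocallyNoetherian X := LocallyOfFiniteType.isLocallyNoetherian i
  have hMi : ∀ c, PicF.IsInvertible (CohB1.tensorPow M c) :=
    InvX.isInvertible_tensorPow (AmpleNeg.isInvertible_inverse hL hM)
  have key : ∀ c : ℕ, ∃ q₀ : ℕ, ∀ q, q₀ ≤ q →
      Subsingleton (Coh.HH X (CohB1.tensorMod F (CohB1.tensorPow M (b * q + c))) j) := by
    intro c
    have hG : Coh.IsCoh (CohB1.tensorMod F (CohB1.tensorPow M c)) :=
      AmpleVan.isCoh_tensor hF (CurveDeg.isCoh_of_isInvertible (hMi c))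
    obtain ⟨m₀, hm⟩ := (negVan_push_iff i hG.1 j).1 (negVan_of_depth_ge i hG
      (fun x hx => (h x hx).trans (depth_tensor (hMi c) F x).ge) j hj)
    refine ⟨(-m₀).toNat, fun q hq => ?_⟩
    obtain ⟨e⟩ := pull_twist_neg i hM hb q
    obtain ⟨e'⟩ : Nonempty (CohB1.tensorMod (CohB1.tensorMod F (CohB1.tensorPow M c))
        ((Scheme.Modules.pullback i).obj (Twist.twist (CohB1.polyGrading r k) (-(q : ℤ)))) ≅
          CohB1.tensorMod F (CohB1.tensorPow M (b * q + c))) := cl_eq_iff.1 (by
      simp only [cl_tensor, cl_tensorPow, cl_eq_iff.2 ⟨e⟩, pow_add]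
      ac_rfl)
    exact QCoh.subsingleton_HH_of_iso e' j (hm (-(q : ℤ)) (by omega))
  choose q₀ hq using key
  refine ⟨b * ((Finset.range b).sup q₀ + 1), fun m hm => ?_⟩
  have h1 := hq (m % b) (m / b) ?_
  · rwa [Nat.div_add_mod] at h1
  · refine le_trans (Finset.le_sup (f := q₀) (Finset.mem_range.2 (Nat.mod_lt m hb0))) ?_
    rw [Nat.le_div_iff_mul_le hb0, mul_comm]
    exact le_trans (Nat.mul_le_mul_left b (Nat.le_succ _)) hm

end Groth.Agent.PnVan
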