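import Groth.Agent.PnVan.Pull
import Groth.Agent.CurveCohLib.SubBundle
import Groth.Agent.S14116

/-!
# Cohen–Macaulay subschemes of projective space
-/

set_option linter.style.haveILetI false
set_option linter.unusedSectionVars false
set_option backward.isDefEq.respectTransparency false
set_option backward.isDefEq.respectTransparency.types false
set_option maxHeartbeats 1000000

universe u

open CategoryTheory CategoryTheory.Limits AlgebraicGeometry TopologicalSpace Opposite
open Groth.Agent.PnCoh Groth.Agent.PnCoh.Finite Groth.Agent.PnDual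

noncomputable section

namespace Groth.Agent.PnVan

variable {k : Type u} [Field k] {r : ℕ} {X : Scheme.{u}} (i : X ⟶ P k r) [IsClosedImmersion i]

include i in
theorem dim_le {n : ℕ} (hn : topologicalKrullDim X = n) : n ≤ r := by
  have h : topologicalKrullDim X ≤ topologicalKrullDim (CohB1.ProjSpace r k) :=
    i.isClosedEmbedding.isInducing.topologicalKrullDim_le
  rw [hn, S10829.result] at h
  exact_mod_cast h

include i in
theorem isLocNoeth : IsLocallyNoetherian X := LocallyOfFiniteType.isLocallyNoetherian i

theorem depth_structure (x : X) [IsNoetherianRing (X.presheaf.stalk x)] :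
    LocCoh.depth (X.presheaf.stalk x) ((Coh.structureModule X).presheaf.stalk x) =
      LocCoh.depth (X.presheaf.stalk x) (X.presheaf.stalk x) := by
  obtain ⟨e⟩ := H23.InvStalk.exists_stalk_equiv InvX.isInvertible_structureModule x
  exact Hensel.depth_congr e

include i in
theorem cm_iff {n : ℕ} (hn : topologicalKrullDim X = n) :
    (∀ x : X, IsClosed ({x} : Set X) →
        LocCoh.IsCohenMacaulayLocalRing (X.presheaf.stalk x) ∧ ringKrullDim (X.presheaf.stalk x) = n) ↔
      ∀ F : X.Modules, FlatMod.IsFinLocFree F → ∃ q₀ : ℕ, ∀ q : ℕ, q₀ ≤ q → ∀ j : ℕ, j < n →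
        Subsingleton (Coh.HH X (CohB1.tensorMod F
          ((Scheme.Modules.pullback i).obj (Twist.twist (CohB1.polyGrading r k) (-(q : ℤ))))) j) := by
  haveI := isLocNoeth i
  have hnr := dim_le i hn
  constructor
  · intro h F hF
    have hFc : Coh.IsCoh F := QCoh.isCoh_iff_isFP.2 (QCoh.isFP_of_isFinLocFree hF)
    have hd : ∀ x : X, IsClosed ({x} : Set X) →
        (n : ℕ∞) ≤ LocCoh.depth (X.presheaf.stalk x) (F.presheaf.stalk x) := fun x hx => by
      obtain ⟨hcm, hdim⟩ := h x hx
      haveI := QCoh.free_stalk_of_isFinLocFree hF x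
      haveI := QCoh.finite_stalk_of_isFT hFc.1 hFc.2 x
      refine le_trans ?_ (S14116.depth_le_of_free _ _)
      have := hcm.supportDim_eq_depth
      rw [Module.supportDim_self_eq_ringKrullDim, hdim] at this
      exact le_of_eq (WithBot.coe_inj.1 this)
    choose m₀ hm using fun j : Fin n => (depth_ge_iff_negVan_push i hFc hnr).1 hd j j.2
    refine ⟨Finset.univ.sup fun j => (-(m₀ j)).toNat, fun q hq j hj => hm ⟨j, hj⟩ _ ?_⟩
    have := (Finset.le_sup (f := fun j => (-(m₀ j)).toNat) (Finset.mem_univ (⟨j, hj⟩ : Fin n))).trans hq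
    omega
  · intro h x hx
    obtain ⟨q₀, hq⟩ := h (Coh.structureModule X) (H23.PullPush.isFinLocFree_of_isInvertible InvX.isInvertible_structureModule)
    have hd := (depth_ge_iff_negVan_push i QCoh.isCoh_structureModule' hnr).2 (fun j hj =>
      ⟨-(q₀ : ℤ), fun d hd => by
        have := hq (-d).toNat (by omega) j hj
        rwa [show -((-d).toNat : ℤ) = d by omega] at this⟩) x hx
    rw [depth_structure] at hd
    have h1 : ringKrullDim (X.presheaf.stalk x) ≤ n :=
      (CurveCohLib.ringKrullDim_stalk_le_topologicalKrullDim x).trans hn.le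
    have h2 : ((LocCoh.depth (X.presheaf.stalk x) (X.presheaf.stalk x) : ℕ∞) : WithBot ℕ∞) ≤
        Module.supportDim (X.presheaf.stalk x) (X.presheaf.stalk x) := LC.depth_le_supportDim _
    rw [Module.supportDim_self_eq_ringKrullDim] at h2
    have h3 : ((n : ℕ∞) : WithBot ℕ∞) ≤ ((LocCoh.depth (X.presheaf.stalk x) (X.presheaf.stalk x) : ℕ∞) : WithBot ℕ∞) :=
      WithBot.coe_le_coe.2 hd
    exact ⟨{ supportDim_eq_depth := by
              rw [Module.supportDim_self_eq_ringKrullDim]; exact le_antisymm (h1.trans h3) h2 },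
      le_antisymm h1 (h3.trans h2)⟩

end Groth.Agent.PnVan
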