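import Groth.Agent.PnVan.Depth
import Groth.Agent.AmpleDev.Basic
import Groth.Agent.H23.SpClosed
import Groth.Agent.Alg6.LocLoc
import Groth.Agent.QCoh.Support
import Groth.Agent.LC.ExtDim
import Groth.Agent.CurveCohLib.Proper
import Groth.Agent.Lib.Euler

/-!
# Negative twists on closed subschemes of projective space
-/

set_option linter.style.haveILetI false
set_option linter.unusedSectionVars false
set_option backward.isDefEq.respectTransparency false
set_option backward.isDefEq.respectTransparency.types false
set_option maxHeartbeats 1000000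

universe u

open CategoryTheory CategoryTheory.Limits AlgebraicGeometry TopologicalSpace Opposite
open Groth.Agent.PnCoh Groth.Agent.PnCoh.Finite Groth.Agent.PnDual

noncomputable section

namespace Groth.Agent.PnVan

variable {k : Type u} [Field k] {r : ℕ}

/-- Depth at least `n` at the closed points is the vanishing of negative twists below `n`. -/
theorem depth_ge_iff_negVan {F : (P k r).Modules} (hF : Coh.IsCoh F) {n : ℕ} (hn : n ≤ r) :
    (∀ x : P k r, IsClosed ({x} : Set (P k r)) →
      (n : ℕ∞) ≤ LocCoh.depth ((P k r).presheaf.stalk x) (F.presheaf.stalk x)) ↔ ∀ j, j < n → NegVan F j := by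
  cases n with
  | zero => exact ⟨fun _ j hj => absurd hj (Nat.not_lt_zero j), fun _ x _ => by rw [Nat.cast_zero]; exact zero_le⟩
  | succ m =>
    have h := pdC_iff_negVan (r - (m + 1)) (Nat.sub_le _ _) hF
    constructor
    · exact fun hd j hj => h.1 (fun x hx => (depth_gt_iff hF hx (n := m) (by omega)).1
        (lt_of_lt_of_le (Nat.cast_lt.2 m.lt_succ_self) (hd x hx))) j (by omega)
    · intro hv x hx
      have h1 := (depth_gt_iff hF hx (n := m) (j := r - (m + 1)) (by omega)).2
        (h.2 (fun i hi => hv i (by omega)) x hx)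
      exact_mod_cast (ENat.add_one_le_iff (ENat.natCast_ne_top m)).2 h1

variable {X : Scheme.{u}} (i : X ⟶ P k r) [IsClosedImmersion i]

theorem isCoh_push {G : X.Modules} (hG : Coh.IsCoh G) : Coh.IsCoh ((Coh.push i).obj G) :=
  QCoh.isCoh_pushforward_finite i hG

theorem isInvertible_pull_twist (d : ℤ) :
    PicF.IsInvertible ((Scheme.Modules.pullback i).obj (Twist.twist (CohB1.polyGrading r k) d)) :=
  PicClLib.isInvertible_pullback i (invertible_twist d)

theorem subsingleton_push_iff {G : X.Modules} (hG : Coh.IsQCoh G) (d : ℤ) (j : ℕ) :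
    Subsingleton (Coh.HH (P k r) ((tw d).obj ((Coh.push i).obj G)) j) ↔
      Subsingleton (Coh.HH X (CohB1.tensorMod G
        ((Scheme.Modules.pullback i).obj (Twist.twist (CohB1.polyGrading r k) d))) j) := by
  obtain ⟨e⟩ := AmpleDev.push_tensor_iso i (invertible_twist d) G
  obtain ⟨a⟩ := QCoh.HH_push_of_isAffineHom i (KFlatLib.isQCoh_tensor hG
    (ProjUPX.isQCoh_of_isInvertible (isInvertible_pull_twist i d))) j
  exact ⟨fun h => a.toEquiv.subsingleton_congr.2 (QCoh.subsingleton_HH_of_iso e j h),
    fun h => QCoh.subsingleton_HH_of_iso e.symm j (a.toEquiv.subsingleton_congr.1 h)⟩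

/-- Negative twists of a pushforward. -/
theorem negVan_push_iff {G : X.Modules} (hG : Coh.IsQCoh G) (j : ℕ) :
    NegVan ((Coh.push i).obj G) j ↔ ∃ m₀ : ℤ, ∀ d, d ≤ m₀ → Subsingleton (Coh.HH X (CohB1.tensorMod G
      ((Scheme.Modules.pullback i).obj (Twist.twist (CohB1.polyGrading r k) d))) j) :=
  exists_congr fun _ => forall₂_congr fun d _ => subsingleton_push_iff i hG d j

theorem depth_push (G : X.Modules) (x : X) :
    LocCoh.depth ((P k r).presheaf.stalk (i x)) (((Coh.push i).obj G).presheaf.stalk (i x)) =
      LocCoh.depth (X.presheaf.stalk x) (G.presheaf.stalk x) := by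
  letI : Module ((P k r).presheaf.stalk (i x)) (G.presheaf.stalk x) := Module.compHom _ (i.stalkMap x).hom
  obtain ⟨e⟩ := H23.SpClosed.nonempty_stalkEquiv i G x
  exact Alg6.depth_eq_of_semilinear (i.stalkMap x).hom (i.stalkMap_surjective x) e.toAddEquiv fun t m => e.map_smul t m

theorem isClosed_image {x : X} (hx : IsClosed ({x} : Set X)) : IsClosed ({i x} : Set (P k r)) := by
  simpa using i.isClosedEmbedding.isClosedMap _ hx

/-- Depth at closed points of a closed subscheme and vanishing of negative twists. -/
theorem depth_ge_iff_negVan_push {G : X.Modules} (hG : Coh.IsCoh G) {n : ℕ} (hn : n ≤ r) :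
    (∀ x : X, IsClosed ({x} : Set X) → (n : ℕ∞) ≤ LocCoh.depth (X.presheaf.stalk x) (G.presheaf.stalk x)) ↔
      ∀ j, j < n → ∃ m₀ : ℤ, ∀ d, d ≤ m₀ → Subsingleton (Coh.HH X (CohB1.tensorMod G
        ((Scheme.Modules.pullback i).obj (Twist.twist (CohB1.polyGrading r k) d))) j) := by
  simp only [← negVan_push_iff i hG.1]
  rw [← depth_ge_iff_negVan (isCoh_push i hG) hn]
  constructor
  · intro h y hy
    by_cases hr : y ∈ Set.range i
    · obtain ⟨x, rfl⟩ := hr
      rw [depth_push i G x]
      refine h x ?_
      have := hy.preimage i.continuous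
      convert this
      ext z
      exact ⟨fun hz => by rw [Set.mem_preimage, hz]; rfl, fun hz => i.isClosedEmbedding.injective hz⟩
    · haveI := H23.ClosedPushLen.subsingleton_stalk i G hr
      exact natCast_le_depth_of_subsingleton _ _ n
  · intro h x hx
    rw [← depth_push i G x]
    exact h (i x) (isClosed_image i hx)

/-- Large depth at closed points gives vanishing in all low degrees. -/
theorem negVan_of_depth_ge {G : X.Modules} (hG : Coh.IsCoh G) {n : ℕ}
    (h : ∀ x : X, IsClosed ({x} : Set X) → (n : ℕ∞) ≤ LocCoh.depth (X.presheaf.stalk x) (G.presheaf.stalk x))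
    (j : ℕ) (hj : j < n) : NegVan ((Coh.push i).obj G) j := by
  rcases le_or_gt n r with hn | hn
  · exact (negVan_push_iff i hG.1 j).2 ((depth_ge_iff_negVan_push i hG hn).1 h j hj)
  have hF := isCoh_push i hG
  have h0 : ∀ y : P k r, IsClosed ({y} : Set (P k r)) → Subsingleton (((Coh.push i).obj G).presheaf.stalk y) := by
    intro y hy
    haveI := finite_stalk hF y
    by_contra hne
    rw [not_subsingleton_iff_nontrivial] at hne
    by_cases hr : y ∈ Set.range i
    · obtain ⟨x, rfl⟩ := hr
      have hx : IsClosed ({x} : Set X) := by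
        have := hy.preimage i.continuous
        convert this
        ext z
        exact ⟨fun hz => by rw [Set.mem_preimage, hz]; rfl, fun hz => i.isClosedEmbedding.injective hz⟩
      have h1 := h x hx
      rw [← depth_push i G x] at h1
      have h2 := ((WithBot.coe_le_coe.2 h1).trans
        (LC.depth_le_supportDim (R := (P k r).presheaf.stalk (i x)) _)).trans
        ((Module.supportDim_le_ringKrullDim _ _).trans (dim_closed hy).le)
      have h3 : n ≤ r := by exact_mod_cast h2
      omega
    · haveI := H23.ClosedPushLen.subsingleton_stalk i G hr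
      exact not_subsingleton _ ‹_›
  have hz : IsZero ((Coh.push i).obj G) := by
    refine CurveCohLib.isZero_of_subsingleton_stalks fun y => ?_
    by_contra hy
    obtain ⟨z, hz, hzc⟩ := exists_closed_point (QCoh.isClosed_support_of_isFT hF.1 hF.2) ⟨y, hy⟩
    exact hz (h0 z hzc)
  exact ⟨0, fun d _ => Euler.subsingleton_HH_of_isZero ((tw d).map_isZero hz) j⟩

end Groth.Agent.PnVan
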